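import Groth.Prelude.Def_Formal2
import Groth.Agent.LoccohA.CutoffLoc
import Groth.Agent.LoccohA.EquidimS2
import Groth.Agent.LoccohA.DimFun
import Groth.Agent.Ega4B.SkLift

/-!
# `Formal2.dimBetween` in terms of relative heights and dimension functions

* `dimBetween_eq_rlen`, `dimBetween_eq_krullDim_Icc`: `dim (A/p)_q` is the dimension of the interval `[p, q]`;
* `dimBetween_eq`: it is `δ p - δ q` for a dimension function `δ`;
* `dimBetween_add`: additivity.
-/

set_option autoImplicit false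
universe u
open CategoryTheory Formal2
namespace K164.DimBtw

open Groth.Agent.Ega4B.CatHeight

variable {A : Type u} [CommRing A]

/-- `dim (A/p)_q` is the relative height. -/
theorem dimBetween_eq_rlen (p q : Ideal A) [hp : p.IsPrime] [hq : q.IsPrime] (h : p ≤ q) :
    dimBetween A p q = ((rlen (⟨p, hp⟩ : PrimeSpectrum A) ⟨q, hq⟩ : ℕ∞) : WithBot ℕ∞) := by
  have hP := Groth.Agent.Ega4B.SkLift.isPrime_map_of_le p q h
  have hc := Groth.Agent.Ega4B.SkLift.comap_map_of_le p q h
  rw [dimBetween, Groth.Agent.LoccohA.EquidimS2.ringKrullDim_quotient_eq_rlen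
    (⟨_, hP⟩ : PrimeSpectrum (Localization.AtPrime q)),
    ← Groth.Agent.LoccohA.CutoffLoc.rlen_comap_localization q.primeCompl]
  congr 2
  · exact PrimeSpectrum.ext hc
  · exact PrimeSpectrum.ext (Localization.AtPrime.under_maximalIdeal (I := q))

theorem dimBetween_eq_krullDim_Icc {p q : PrimeSpectrum A} (h : p ≤ q) :
    dimBetween A p.asIdeal q.asIdeal = Order.krullDim (Set.Icc p q) := by
  rw [Groth.Agent.LoccohA.CutoffLoc.krullDim_Icc h, dimBetween_eq_rlen p.asIdeal q.asIdeal h]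

variable [IsNoetherianRing A] {δ : PrimeSpectrum A → ℤ}

theorem exists_delta_eq (hδ : ∀ p q : PrimeSpectrum A, p ⋖ q → δ p = δ q + 1) {p q : PrimeSpectrum A}
    (h : p ≤ q) : ∃ n : ℕ, δ p = δ q + n ∧ dimBetween A p.asIdeal q.asIdeal = ((n : ℕ) : WithBot ℕ∞) := by
  refine ⟨(δ p - δ q).toNat, ?_, ?_⟩
  · have := Groth.Agent.LoccohA.DimFun.le_of_le hδ h
    omega
  · rw [dimBetween_eq_krullDim_Icc h, Groth.Agent.LoccohA.DimFun.krullDim_Icc hδ h]
    have := Groth.Agent.LoccohA.DimFun.le_of_le hδ h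
    omega

theorem dimBetween_eq_natCast_iff (hδ : ∀ p q : PrimeSpectrum A, p ⋖ q → δ p = δ q + 1)
    {p q : PrimeSpectrum A} (h : p ≤ q) (n : ℕ) :
    dimBetween A p.asIdeal q.asIdeal = ((n : ℕ) : WithBot ℕ∞) ↔ δ p = δ q + n := by
  rw [dimBetween_eq_krullDim_Icc h, Groth.Agent.LoccohA.DimFun.krullDim_Icc hδ h]

end K164.DimBtw
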