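import Groth.Agent.FormalA.Stab07
import Groth.Agent.S0380
import Groth.Agent.Ega4B.SkLift
import Groth.Prelude.Def_Formal2

/-!
# `dim (A/p)_q ≤ cd(A, I)` for `q` minimal over `p + I`
-/

set_option autoImplicit false
universe u

namespace K164.CdDim

open LocCoh Formal2 IsLocalRing

variable {A : Type u} [CommRing A] [IsNoetherianRing A]

theorem dimBetween_le_of_minimal (I : Ideal A) (d : ℕ) (hd : CdLE A I d) (p : Ideal A) [p.IsPrime]
    (q : Ideal A) [hq' : q.IsPrime] (hq : q ∈ (p ⊔ I).minimalPrimes) :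
    dimBetween A p q ≤ ((d : ℕ) : WithBot ℕ∞) := by
  have hpq : p ≤ q := le_sup_left.trans hq.1.2
  have hIq : I ≤ q := le_sup_right.trans hq.1.2
  have hP := Groth.Agent.Ega4B.SkLift.isPrime_map_of_le p q hpq
  have hloc : CdLE (Localization.AtPrime q) (I.map (algebraMap A (Localization.AtPrime q))) d :=
    (Groth.Agent.S0380.result A I d).1 hd q
  have hne : I.map (algebraMap A (Localization.AtPrime q)) ≠ ⊤ := by
    have h1 : I.map (algebraMap A (Localization.AtPrime q)) ≤
        maximalIdeal (Localization.AtPrime q) := by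
      rw [← Localization.AtPrime.map_eq_maximalIdeal]
      exact Ideal.map_mono hIq
    exact fun h => (maximalIdeal.isMaximal (Localization.AtPrime q)).ne_top (top_le_iff.1 (h ▸ h1))
  refine Groth.Agent.FormalA.Stab07.ringKrullDim_quotient_le hne hloc
    (p.map (algebraMap A (Localization.AtPrime q))) ?_
  intro r hr hpr hIr
  have h1 : p ⊔ I ≤ r.comap (algebraMap A (Localization.AtPrime q)) :=
    sup_le (Ideal.map_le_iff_le_comap.1 hpr) (Ideal.map_le_iff_le_comap.1 hIr)
  have h2 : r.comap (algebraMap A (Localization.AtPrime q)) ≤ q := by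
    have h3 := le_maximalIdeal hr.ne_top
    have h4 := Ideal.comap_mono (f := algebraMap A (Localization.AtPrime q)) h3
    exact h4.trans (Localization.AtPrime.under_maximalIdeal (I := q)).le
  have h3 : q ≤ r.comap (algebraMap A (Localization.AtPrime q)) :=
    hq.2 ⟨hr.comap _, h1⟩ h2
  have h4 : maximalIdeal (Localization.AtPrime q) ≤ r := by
    rw [← Localization.AtPrime.map_eq_maximalIdeal]
    exact Ideal.map_le_iff_le_comap.2 h3
  exact ((maximalIdeal.isMaximal _).eq_of_le hr.ne_top h4).symm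

/-- for `A` `I`-adically complete and `p` prime there is `q ⊇ p + I` with `dim (A/p)_q ≤ cd(A, I)`. -/
theorem exists_dimBetween_le (I : Ideal A) [IsAdicComplete I A] (d : ℕ) (hd : CdLE A I d)
    (p : PrimeSpectrum A) : ∃ q : PrimeSpectrum A, p ≤ q ∧ I ≤ q.asIdeal ∧
      dimBetween A p.asIdeal q.asIdeal ≤ ((d : ℕ∞) : WithBot ℕ∞) := by
  have hne : p.asIdeal ⊔ I ≠ ⊤ := by
    intro h
    obtain ⟨m, hm, hpm⟩ := Ideal.exists_le_maximal _ p.2.ne_top
    have h1 : I ≤ m := (IsAdicComplete.le_jacobson_bot I).trans (sInf_le ⟨bot_le, hm⟩)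
    exact hm.ne_top (top_le_iff.1 (h ▸ sup_le hpm h1))
  obtain ⟨q, hq⟩ := Ideal.nonempty_minimalPrimes hne
  have hqp := hq.1.1
  exact ⟨⟨q, hqp⟩, le_sup_left.trans hq.1.2, le_sup_right.trans hq.1.2,
    dimBetween_le_of_minimal I d hd p.asIdeal q hq⟩

end K164.CdDim
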