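import Groth.Agent.LocCoh.K164.Stab
import Groth.Agent.LoccohA.HTV
import Groth.Agent.Localalg.DepthLC
import Groth.Agent.S1806
import Groth.Agent.S1711
import Groth.Agent.S1727

/-!
# Improving local cohomology: consequences of the stabilisation lemma

For `J₀` as in `K164.Stab.exists_stab`: the comparison maps `H^i_{J₀}(M) → H^i_{J'}(M)` are bijective for `i ≤ s`, and
`H^i_{J₀}(M)` is killed by a power of `J₀ I`.
-/

set_option autoImplicit false
universe u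

open CategoryTheory
attribute [local instance] HasDerivedCategory.standard

namespace K164.StabH

open LocCoh Groth.Agent.LoccohA Formal2 K164.Stab

variable {A : Type u} [CommRing A] [IsNoetherianRing A]

/-- Local cohomology at `p` vanishes in degrees below the depth. -/
theorem subsingleton_H (p : PrimeSpectrum A) (M : Type u) [AddCommGroup M] [Module A M] [Module.Finite A M]
    (i : ℕ) (h : (i : ℕ∞) < dep p M) :
    Subsingleton (LocCoh.H (IsLocalRing.maximalIdeal (Localization.AtPrime p.asIdeal)) i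
      (LocalizedModule p.asIdeal.primeCompl M)) := by
  have : Module.Finite (Localization.AtPrime p.asIdeal) (LocalizedModule p.asIdeal.primeCompl M) :=
      Module.Finite.of_isLocalizedModule p.asIdeal.primeCompl
        (LocalizedModule.mkLinearMap p.asIdeal.primeCompl M)
  exact Groth.Agent.Localalg.DepthLC.subsingleton_H_of_lt_idealDepth _ _ i h

/-- Comparison maps are bijective when the depth is large on the difference of the supports. -/
theorem bijective_HmapOfLE {I I' : Ideal A} (h : I ≤ I') (M : Type u) [AddCommGroup M] [Module A M]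
    [Module.Finite A M] (s : ℕ)
    (hs : ∀ p : PrimeSpectrum A, I ≤ p.asIdeal → ¬ I' ≤ p.asIdeal → (s : ℕ∞) < dep p M) (i : ℕ) (hi : i ≤ s) :
    Function.Bijective ((Dual2.HmapOfLE h i).app (ModuleCat.of A M)).hom := by
  have key := Groth.Agent.S1806.result A I I' h M i
  refine ⟨key.2 fun p h1 h2 j hj => ?_, key.1 fun p h1 h2 => ?_⟩
  · exact subsingleton_H p M j (lt_of_le_of_lt (by exact_mod_cast (by omega : j ≤ s)) (hs p h1 h2))
  · exact subsingleton_H p M i (lt_of_le_of_lt (by exact_mod_cast hi) (hs p h1 h2))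

/-- Annihilation of local cohomology by a power of an ideal. -/
theorem exists_pow_annihilates (hA : ∃ ω : Dual.D A, Dual.IsDualizing A ω) (J K : Ideal A) (hKJ : K ≤ J)
    (M : Type u) [AddCommGroup M] [Module A M] [Module.Finite A M] (s : ℕ)
    (h : ∀ p q : PrimeSpectrum A, ¬ K ≤ p.asIdeal → J ≤ q.asIdeal → p ≤ q →
      (((s : ℕ) : ℕ∞) : WithBot ℕ∞) < ((dep p M : ℕ∞) : WithBot ℕ∞) + dimBetween A p.asIdeal q.asIdeal) :
    ∃ n : ℕ, ∀ a ∈ K ^ n, ∀ i : ℕ, i ≤ s → ∀ x : LocCoh.H J i M, a • x = 0 := by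
  have hT : ∀ K : Ideal A, StableUnderSpecialization (PrimeSpectrum.zeroLocus (K : Set A)) := fun K =>
    (PrimeSpectrum.isClosed_zeroLocus _).stableUnderSpecialization
  obtain ⟨L, hL, hL'⟩ := (Groth.Agent.S1711.result A hA (PrimeSpectrum.zeroLocus (J : Set A))
    (PrimeSpectrum.zeroLocus (K : Set A)) (hT J) (hT K) (PrimeSpectrum.zeroLocus_anti_mono hKJ) s M).2 (by
      intro p q hp hq hpq
      have h1 := h p q hp hq hpq
      rw [DimBtw.dimBetween_eq_krullDim_Icc hpq] at h1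
      exact h1)
  rw [PrimeSpectrum.zeroLocus_subset_zeroLocus_iff] at hL
  obtain ⟨n, hn⟩ := Ideal.exists_pow_le_of_le_radical_of_fg hL (IsNoetherian.noetherian K)
  refine ⟨n, fun a ha i hi x => ?_⟩
  have h2 := hL' i hi a (hn ha) ((HTV.equivH J i M).symm x)
  rw [← map_smul, LinearEquiv.map_eq_zero_iff] at h2
  exact h2

theorem zero_le_dimBetween {p q : PrimeSpectrum A} (h : p ≤ q) : 0 ≤ dimBetween A p.asIdeal q.asIdeal := by
  rw [DimBtw.dimBetween_eq_rlen p.asIdeal q.asIdeal h]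
  exact_mod_cast bot_le

section Core

variable {I J : Ideal A} {M : Type u} [AddCommGroup M] [Module A M] [Module.Finite A M] {s d : ℕ}
  {T : Set (PrimeSpectrum A)}

omit [IsNoetherianRing A] in
theorem zeroLocus_eq (hT : ∀ p : PrimeSpectrum A, p ∈ T ↔ ∀ q : PrimeSpectrum A, p ≤ q → I ≤ q.asIdeal → J ≤ q.asIdeal)
    {J₀ : Ideal A} (h1 : J₀ ≤ J) (h2 : ∀ p : PrimeSpectrum A, J₀ ≤ p.asIdeal → p ∈ T) :
    PrimeSpectrum.zeroLocus ((J₀ : Ideal A) : Set A) ∩ PrimeSpectrum.zeroLocus ((I : Ideal A) : Set A) =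
      PrimeSpectrum.zeroLocus ((J : Ideal A) : Set A) ∩ PrimeSpectrum.zeroLocus ((I : Ideal A) : Set A) := by
  ext p
  constructor
  · rintro ⟨hp, hp'⟩
    exact ⟨(hT p).1 (h2 p hp) p le_rfl hp', hp'⟩
  · rintro ⟨hp, hp'⟩
    exact ⟨h1.trans hp, hp'⟩

/-- the depth condition for annihilation. -/
theorem lt_dep_add (hcov : ∃ δ : PrimeSpectrum A → ℤ, ∀ p q : PrimeSpectrum A, p ⋖ q → δ p = δ q + 1)
    (hT : ∀ p : PrimeSpectrum A, p ∈ T ↔ ∀ q : PrimeSpectrum A, p ≤ q → I ≤ q.asIdeal → J ≤ q.asIdeal)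
    (h3 : ∀ p : PrimeSpectrum A, ¬ I ≤ p.asIdeal → p ∈ T → ∃ q : PrimeSpectrum A,
      p ≤ q ∧ J ≤ q.asIdeal ∧ I ≤ q.asIdeal ∧ dimBetween A p.asIdeal q.asIdeal ≤ ((d : ℕ∞) : WithBot ℕ∞))
    (h4 : ∀ p : PrimeSpectrum A, ¬ I ≤ p.asIdeal → p ∉ T → ∀ q : PrimeSpectrum A,
      p ≤ q → J ≤ q.asIdeal → I ≤ q.asIdeal → (s : ℕ∞) ≤ dep p M ∨
        (((d + s : ℕ) : ℕ∞) : WithBot ℕ∞) < ((dep p M : ℕ∞) : WithBot ℕ∞) + dimBetween A p.asIdeal q.asIdeal)
    {J₀ : Ideal A} (h2 : ∀ p : PrimeSpectrum A, J₀ ≤ p.asIdeal → p ∈ T)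
    (h5 : ∀ p : PrimeSpectrum A, p ∈ T → ¬ I ≤ p.asIdeal → dep p M ≤ s → J₀ ≤ p.asIdeal)
    (p q : PrimeSpectrum A) (hIp : ¬ I ≤ p.asIdeal) (hp : ¬ J₀ ≤ p.asIdeal) (hq : J₀ ≤ q.asIdeal) (hpq : p ≤ q) :
    (((s : ℕ) : ℕ∞) : WithBot ℕ∞) < ((dep p M : ℕ∞) : WithBot ℕ∞) + dimBetween A p.asIdeal q.asIdeal := by
  obtain ⟨δ, hcov⟩ := hcov
  obtain ⟨n, hn, hn'⟩ := DimBtw.exists_delta_eq hcov hpq
  have hne : p ≠ q := fun h => hp (h ▸ hq)
  have hn1 : 1 ≤ n := by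
    have := DimFun.lt_of_lt hcov (lt_of_le_of_ne hpq hne)
    omega
  rw [hn', lt_add_iff]
  by_cases hpT : p ∈ T
  · have h6 : (s : ℕ∞) < dep p M := by
      by_contra hcon
      exact hp (h5 p hpT hIp (not_lt.1 hcon))
    exact lt_of_lt_of_le h6 le_self_add
  · have hqT := h2 q hq
    have hcase : ∀ r : PrimeSpectrum A, q ≤ r → J ≤ r.asIdeal → I ≤ r.asIdeal →
        dimBetween A q.asIdeal r.asIdeal ≤ ((d : ℕ∞) : WithBot ℕ∞) → (s : ℕ∞) < dep p M + n := by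
      intro r hqr hJr hIr hdr
      obtain ⟨m, hm, hm'⟩ := DimBtw.exists_delta_eq hcov hqr
      obtain ⟨l, hl, hl'⟩ := DimBtw.exists_delta_eq hcov (hpq.trans hqr)
      have hmd : m ≤ d := by
        rw [hm'] at hdr
        exact_mod_cast hdr
      rcases h4 p hIp hpT r (hpq.trans hqr) hJr hIr with h6 | h6
      · by_cases htop : dep p M = ⊤
        · rw [htop, top_add]
          exact ENat.natCast_lt_top s
        · obtain ⟨e, he⟩ := ENat.ne_top_iff_exists.1 htop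
          rw [← he] at h6 ⊢
          have h7 : s ≤ e := by exact_mod_cast h6
          exact_mod_cast (by omega : s < e + n)
      · rw [hl', lt_add_iff] at h6
        by_contra hcon
        rw [not_lt] at hcon
        have hlnm : l = n + m := by omega
        subst hlnm
        have h7 : dep p M + ((n + m : ℕ) : ℕ∞) ≤ ((d + s : ℕ) : ℕ∞) := by
          push_cast
          calc dep p M + ((n : ℕ∞) + (m : ℕ∞)) = (dep p M + n) + m := by rw [add_assoc]
            _ ≤ s + d := by gcongr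
            _ = d + s := add_comm _ _
        exact absurd h6 (not_lt.2 h7)
    by_cases hIq : I ≤ q.asIdeal
    · refine hcase q le_rfl ((hT q).1 hqT q le_rfl hIq) hIq ?_
      obtain ⟨m, hm, hm'⟩ := DimBtw.exists_delta_eq hcov (le_refl q)
      have : m = 0 := by omega
      rw [hm', this]
      exact_mod_cast bot_le
    · obtain ⟨r, hqr, hJr, hIr, hdr⟩ := h3 q hIq hqT
      exact hcase r hqr hJr hIr hdr

/-- bijectivity of the comparison maps -/
theorem bijective_of_stab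
    (hT : ∀ p : PrimeSpectrum A, p ∈ T ↔ ∀ q : PrimeSpectrum A, p ≤ q → I ≤ q.asIdeal → J ≤ q.asIdeal)
    {J₀ : Ideal A} (h1 : J₀ ≤ J)
    (h5 : ∀ p : PrimeSpectrum A, p ∈ T → ¬ I ≤ p.asIdeal → dep p M ≤ s → J₀ ≤ p.asIdeal)
    (J' : Ideal A) (hJ' : J' ≤ J₀) (hV : PrimeSpectrum.zeroLocus ((J' : Ideal A) : Set A) ∩
      PrimeSpectrum.zeroLocus ((I : Ideal A) : Set A) = PrimeSpectrum.zeroLocus ((J : Ideal A) : Set A) ∩
        PrimeSpectrum.zeroLocus ((I : Ideal A) : Set A)) (i : ℕ) (hi : i ≤ s) :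
    Function.Bijective ((Dual2.HmapOfLE hJ' i).app (ModuleCat.of A M)).hom := by
  refine bijective_HmapOfLE hJ' M s (fun p hp hp' => ?_) i hi
  have hIp : ¬ I ≤ p.asIdeal := by
    intro hIp
    have h6 : p ∈ PrimeSpectrum.zeroLocus ((J' : Ideal A) : Set A) ∩
      PrimeSpectrum.zeroLocus ((I : Ideal A) : Set A) := ⟨hp, hIp⟩
    rw [hV] at h6
    exact hp' (h1.trans h6.1)
  have hpT : p ∈ T := by
    rw [hT]
    intro q hpq hIq
    have h6 : q ∈ PrimeSpectrum.zeroLocus ((J' : Ideal A) : Set A) ∩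
      PrimeSpectrum.zeroLocus ((I : Ideal A) : Set A) := ⟨hp.trans hpq, hIq⟩
    rw [hV] at h6
    exact h6.1
  by_contra hcon
  exact hp' (h5 p hpT hIp (not_lt.1 hcon))

/-- annihilation by a power of `J₀ I` -/
theorem annihilates_of_stab (hdc : ∃ ω : Dual.D A, Dual.IsDualizing A ω)
    (hT : ∀ p : PrimeSpectrum A, p ∈ T ↔ ∀ q : PrimeSpectrum A, p ≤ q → I ≤ q.asIdeal → J ≤ q.asIdeal)
    (h3 : ∀ p : PrimeSpectrum A, ¬ I ≤ p.asIdeal → p ∈ T → ∃ q : PrimeSpectrum A,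
      p ≤ q ∧ J ≤ q.asIdeal ∧ I ≤ q.asIdeal ∧ dimBetween A p.asIdeal q.asIdeal ≤ ((d : ℕ∞) : WithBot ℕ∞))
    (h4 : ∀ p : PrimeSpectrum A, ¬ I ≤ p.asIdeal → p ∉ T → ∀ q : PrimeSpectrum A,
      p ≤ q → J ≤ q.asIdeal → I ≤ q.asIdeal → (s : ℕ∞) ≤ dep p M ∨
        (((d + s : ℕ) : ℕ∞) : WithBot ℕ∞) < ((dep p M : ℕ∞) : WithBot ℕ∞) + dimBetween A p.asIdeal q.asIdeal)
    {J₀ : Ideal A} (h2 : ∀ p : PrimeSpectrum A, J₀ ≤ p.asIdeal → p ∈ T)
    (h5 : ∀ p : PrimeSpectrum A, p ∈ T → ¬ I ≤ p.asIdeal → dep p M ≤ s → J₀ ≤ p.asIdeal) :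
    ∃ n : ℕ, ∀ a ∈ (J₀ * I) ^ n, ∀ i : ℕ, i ≤ s → ∀ x : LocCoh.H J₀ i M, a • x = 0 := by
  have hcov : ∃ δ : PrimeSpectrum A → ℤ, ∀ p q : PrimeSpectrum A, p ⋖ q → δ p = δ q + 1 := by
    obtain ⟨ω, hω⟩ := hdc
    obtain ⟨δ, -, hcov⟩ := Groth.Agent.S1722.result A ω hω
    exact ⟨δ, hcov⟩
  refine exists_pow_annihilates hdc J₀ (J₀ * I) Ideal.mul_le_left M s fun p q hp hq hpq => ?_
  have hp1 : ¬ J₀ ≤ p.asIdeal := fun h => hp (Ideal.mul_le_left.trans h)
  have hp2 : ¬ I ≤ p.asIdeal := fun h => hp (Ideal.mul_le_right.trans h)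
  exact lt_dep_add hcov hT h3 h4 h2 h5 p q hp2 hp1 hq hpq

end Core

end K164.StabH
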