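import Groth.Agent.LocCoh.K164.Stab
import Groth.Agent.LocCoh.K164.StabH

/-!
# `depth M_p + dim (A/p)_q` under generization of `p`

For a Noetherian ring with a dualizing complex, `depth M_p + dim (A/p)_q > n` implies
`depth M_{p'} + dim (A/p')_q > n` for `p' ≤ p ≤ q`; and in a local ring, `H^i_m(M) = 0` for
`i < depth M_m`.
-/

set_option autoImplicit false
universe u

open CategoryTheory
attribute [local instance] HasDerivedCategory.standard

namespace K164.DepMono

open LocCoh Groth.Agent.LoccohA Groth.Agent.LoccohA.DExt Formal2 K164.Stab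

variable {A : Type u} [CommRing A] [IsNoetherianRing A]

theorem lt_dep_add_of_le (hω : ∃ ω : Dual.D A, Dual.IsDualizing A ω)
    (M : Type u) [AddCommGroup M] [Module A M] [Module.Finite A M] (n : ℕ)
    {p' p q : PrimeSpectrum A} (h1 : p' ≤ p) (h2 : p ≤ q)
    (h : (((n : ℕ) : ℕ∞) : WithBot ℕ∞) < ((dep p M : ℕ∞) : WithBot ℕ∞) + dimBetween A p.asIdeal q.asIdeal) :
    (((n : ℕ) : ℕ∞) : WithBot ℕ∞) < ((dep p' M : ℕ∞) : WithBot ℕ∞) + dimBetween A p'.asIdeal q.asIdeal := by
  obtain ⟨ω, hω⟩ := hω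
  obtain ⟨δ, hδ, hcov⟩ := Groth.Agent.S1722.result A ω hω
  have hfin : ∀ (i : ℤ) (M : Type u) [AddCommGroup M] [Module A M] [Module.Finite A M],
      Module.Finite A (DExt.E ω i M) := fun i M _ _ _ => DExtFin.finite_E hω i M
  have hδ' : ∀ (p : PrimeSpectrum A) (i : ℤ),
      p ∈ Module.support A (DExt.E ω i (A ⧸ p.asIdeal)) ↔ i = -δ p := hδ
  obtain ⟨a, ha, ha'⟩ := DimBtw.exists_delta_eq hcov h2
  obtain ⟨b, hb, hb'⟩ := DimBtw.exists_delta_eq hcov (h1.trans h2)
  rw [ha', lt_add_iff] at h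
  rw [hb', lt_add_iff]
  by_contra hcon
  rw [not_lt] at hcon
  have hbn : b ≤ n := by
    have : (b : ℕ∞) ≤ n := le_trans le_add_self hcon
    exact_mod_cast this
  have hdep : dep p' M ≤ ((n - b : ℕ) : ℕ∞) := by
    have h3 : dep p' M + b ≤ ((n - b : ℕ) : ℕ∞) + b := by
      refine hcon.trans ?_
      exact_mod_cast (by omega : n ≤ n - b + b)
    exact (ENat.add_le_add_iff_right (ENat.natCast_ne_top b)).1 h3
  obtain ⟨k, hk, hmem⟩ := exists_mem_support ω hfin hδ' p' M (n - b) hdep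
  have hmem' : p ∈ Module.support A (E ω (-(δ p' + k)) M) := by
    have := hfin (-(δ p' + k)) M
    exact Module.mem_support_mono h1 hmem
  obtain ⟨j, hj, hdj⟩ := dep_le_of_mem_support ω hfin hδ' p M _ hmem'
  have h5 : dep p M + a ≤ n := by
    refine (add_le_add_left hdj _).trans ?_
    have : j + a ≤ n := by omega
    exact_mod_cast this
  exact absurd h (not_lt.2 h5)

omit [IsNoetherianRing A] in
theorem subsingleton_H_top (M : Type u) [AddCommGroup M] [Module A M] (i : ℕ) :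
    Subsingleton (LocCoh.H (⊤ : Ideal A) i M) := by
  apply Groth.Agent.Localalg.DepthLC.subsingleton_H_of_forall
  intro k
  have h1 : Subsingleton (A ⧸ (⊤ : Ideal A) ^ k) := by
    rw [Ideal.Quotient.subsingleton_iff]
    rw [← Ideal.one_eq_top, one_pow]
  have h2 : Limits.IsZero (ModuleCat.of A (A ⧸ (⊤ : Ideal A) ^ k)) := by
    rw [ModuleCat.isZero_iff_subsingleton]
    exact h1
  refine ⟨fun x y => ?_⟩
  rw [← Abelian.Ext.mk₀_id_comp x, ← Abelian.Ext.mk₀_id_comp y, h2.eq_zero_of_src (𝟙 _)]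
  simp

/-- `H^i_m(M) = 0` for `i < depth M_m`. -/
theorem subsingleton_H_maximalIdeal [IsLocalRing A] (M : Type u) [AddCommGroup M] [Module A M]
    [Module.Finite A M] (s : ℕ) (h : (s : ℕ∞) < dep (IsLocalRing.closedPoint A) M) (i : ℕ) (hi : i ≤ s) :
    Subsingleton (LocCoh.H (IsLocalRing.maximalIdeal A) i M) := by
  have h1 := StabH.bijective_HmapOfLE (le_top : IsLocalRing.maximalIdeal A ≤ ⊤) M s (by
    intro p hp _
    have : p = IsLocalRing.closedPoint A := PrimeSpectrum.ext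
      ((IsLocalRing.maximalIdeal.isMaximal A).eq_of_le p.isPrime.ne_top hp).symm
    rwa [this]) i hi
  have h2 := subsingleton_H_top (A := A) M i
  refine ⟨fun x y => ?_⟩
  obtain ⟨x, rfl⟩ := h1.2 x
  obtain ⟨y, rfl⟩ := h1.2 y
  congr 1
  exact Subsingleton.elim (α := LocCoh.H (⊤ : Ideal A) i M) x y

end K164.DepMono
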