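import Groth.Agent.LocCoh.K164.HatRefl
import Groth.Agent.Localalg.Gam

/-!
# Degree zero: `Hom(A, RΓ_J(M)) = Γ_J(M)`

* `evM M : Hom(A, M[0]⟦0⟧) ≃ₗ M`, natural in `M`;
* `ev J M : Hom(A, RΓ_J(M)⟦0⟧) →ₗ M`, natural in `M`, injective with image `Γ_J(M)`.
-/

set_option autoImplicit false
universe u

open CategoryTheory Limits Opposite Pretriangulated DerivedCategory

attribute [local instance] HasDerivedCategory.standard

namespace K164.EvZero

open Groth.Agent Groth.Agent.LoccohB Groth.Agent.S1814 Groth.Agent.LoccohB.RlimComp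
  Groth.Agent.LoccohB.RGammaTors HatRefl Groth.Agent.Localalg.Gam

variable {A : Type u} [CommRing A]

/-- the cast degree zero -/
abbrev z0 : ℤ := ((0 : ℕ) : ℤ)

/-- `Hom(A, M[0]⟦0⟧) = M` -/
noncomputable def evM (M : ModuleCat.{u} A) :
    (Dual.inD A A ⟶ (Dual.inD A M)⟦z0⟧) ≃ₗ[A] M :=
  (Localalg.DRingHom.ringEquiv A (Dual.inD A M) z0).trans
    ((singleFunctorCompHomologyFunctorIso (ModuleCat.{u} A) 0).app M).toLinearEquiv

theorem evM_map {M N : ModuleCat.{u} A} (f : M ⟶ N) (x : Dual.inD A A ⟶ (Dual.inD A M)⟦z0⟧) :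
    evM N (x ≫ ((singleFunctor (ModuleCat.{u} A) 0).map f)⟦z0⟧') = f (evM M x) := by
  have h1 := Localalg.DRingHom.ringEquiv_comp A z0 x ((singleFunctor (ModuleCat.{u} A) 0).map f)
  have h2 := (singleFunctorCompHomologyFunctorIso (ModuleCat.{u} A) 0).hom.naturality f
  have h3 := congrArg (fun t => ModuleCat.Hom.hom t
    (Localalg.DRingHom.ringEquiv A (Dual.inD A M) z0 x)) h2
  refine Eq.trans ?_ h3
  change ((singleFunctorCompHomologyFunctorIso (ModuleCat.{u} A) 0).hom.app N).hom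
    (Localalg.DRingHom.ringEquiv A (Dual.inD A N) z0 _) = _
  rw [h1]
  rfl

/-- precomposition with an epimorphism is injective on maps from `D^{≤ 0}` to `D^{≥ 0}` -/
theorem eq_zero_of_epi {S T : ModuleCat.{u} A} (f : S ⟶ T) [Epi f] (X : Dual.D A) [X.IsGE 0]
    (x : (singleFunctor (ModuleCat.{u} A) 0).obj T ⟶ X)
    (hx : (singleFunctor (ModuleCat.{u} A) 0).map f ≫ x = 0) : x = 0 := by
  apply (DCalc.homEquiv 0 _ _).injective
  rw [DCalc.homEquiv_apply, DCalc.homEquiv_apply, Functor.map_zero]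
  have h1 : Epi ((homologyFunctor (ModuleCat.{u} A) 0).map
      ((singleFunctor (ModuleCat.{u} A) 0).map f)) := by
    have h2 := (singleFunctorCompHomologyFunctorIso (ModuleCat.{u} A) 0).hom.naturality f
    have h3 : (homologyFunctor (ModuleCat.{u} A) 0).map ((singleFunctor (ModuleCat.{u} A) 0).map f) =
      (singleFunctorCompHomologyFunctorIso (ModuleCat.{u} A) 0).hom.app S ≫ f ≫
        (singleFunctorCompHomologyFunctorIso (ModuleCat.{u} A) 0).inv.app T := by
      rw [← Category.assoc]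
      erw [← h2]
      rw [Category.assoc, Iso.hom_inv_id_app, Category.comp_id]
      rfl
    rw [h3]
    infer_instance
  rw [← cancel_epi ((homologyFunctor (ModuleCat.{u} A) 0).map
      ((singleFunctor (ModuleCat.{u} A) 0).map f)), ← Functor.map_comp, hx, comp_zero,
      Functor.map_zero]

variable [IsNoetherianRing A] (J : Ideal A) [DRing.HasRgammaI J]

/-- `Hom(A, RΓ_J(M)⟦0⟧) → M` -/
noncomputable def ev (M : ModuleCat.{u} A) :
    (Dual.inD A A ⟶ ((G₀ (DRing.RgammaI J)).obj M)⟦z0⟧) →ₗ[A] M :=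
  (evM M).toLinearMap ∘ₗ Linear.rightComp A (Dual.inD A A)
    (((DRing.RgammaIε J).app (Dual.inD A M))⟦z0⟧')

omit [IsNoetherianRing A] in
theorem ev_apply (M : ModuleCat.{u} A)
    (x : Dual.inD A A ⟶ ((G₀ (DRing.RgammaI J)).obj M)⟦z0⟧) :
    ev J M x = evM M (x ≫ ((DRing.RgammaIε J).app (Dual.inD A M))⟦z0⟧') := rfl

omit [IsNoetherianRing A] in
theorem ev_map {M N : ModuleCat.{u} A} (f : M ⟶ N)
    (x : Dual.inD A A ⟶ ((G₀ (DRing.RgammaI J)).obj M)⟦z0⟧) :
    ev J N (x ≫ ((G₀ (DRing.RgammaI J)).map f)⟦z0⟧') = f (ev J M x) := by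
  rw [ev_apply, ev_apply, ← evM_map]
  congr 1
  rw [Category.assoc, Category.assoc, ← Functor.map_comp, ← Functor.map_comp]
  congr 2
  exact (DRing.RgammaIε J).naturality ((singleFunctor (ModuleCat.{u} A) 0).map f)

/-- `ε` is a coreflection, also after shifts -/
theorem coref_ε (K : Dual.D A) (i : ℤ) :
    GMAbs.IsCoref (Tors J) (((DRing.RgammaIε J).app K)⟦i⟧') := by
  apply coref_shift (tors_shift J)
  exact ⟨torsion_rgamma J K, fun Z hZ u => (comp_ε_bijective J hZ K).2 u,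
    fun Z hZ v w h => (comp_ε_bijective J hZ K).1 h⟩

omit [DRing.HasRgammaI J] [IsNoetherianRing A] in
theorem tors_quot (k : ℕ) : Tors J (Dual.inD A (A ⧸ J ^ k)) := by
  intro i
  by_cases hi : i = 0
  · subst hi
    refine isPowerTorsion_of_linearEquiv J
      ((singleFunctorCompHomologyFunctorIso (ModuleCat.{u} A) 0).app
        (ModuleCat.of A (A ⧸ J ^ k))).symm.toLinearEquiv ?_
    intro x
    refine ⟨k, fun a ha => ?_⟩
    obtain ⟨y, rfl⟩ := Submodule.mkQ_surjective (J ^ k) x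
    change a • (Submodule.Quotient.mk y : A ⧸ J ^ k) = 0
    rw [← Submodule.Quotient.mk_smul, Submodule.Quotient.mk_eq_zero, smul_eq_mul]
    exact Ideal.mul_mem_right _ _ ha
  · have := subsingleton_single (A := A) (A ⧸ J ^ k) i hi
    exact fun x => ⟨0, fun a _ => Subsingleton.elim _ _⟩

omit [IsNoetherianRing A] in
theorem exists_smul_eq_zero (M : ModuleCat.{u} A)
    (x : Dual.inD A A ⟶ ((G₀ (DRing.RgammaI J)).obj M)⟦z0⟧) :
    ∃ k : ℕ, ∀ a ∈ J ^ k, a • x = 0 := by
  obtain ⟨k, hk⟩ := torsion_rgamma J (Dual.inD A M) z0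
    (Localalg.DRingHom.ringEquiv A _ z0 x)
  refine ⟨k, fun a ha => ?_⟩
  apply (Localalg.DRingHom.ringEquiv A _ z0).injective
  rw [map_smul, map_zero]
  exact hk a ha

omit [IsNoetherianRing A] in
theorem ev_mem (M : ModuleCat.{u} A)
    (x : Dual.inD A A ⟶ ((G₀ (DRing.RgammaI J)).obj M)⟦z0⟧) : ev J M x ∈ gam J M := by
  obtain ⟨k, hk⟩ := exists_smul_eq_zero J M x
  exact ⟨k, fun a ha => by rw [← map_smul, hk a ha, map_zero]⟩

/-- the inclusion `J ^ k → A` and the projection -/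
noncomputable def seqA (K : Ideal A) : ShortComplex (ModuleCat.{u} A) :=
  ShortComplex.mk (ModuleCat.ofHom (X := K) (Y := A) (Submodule.subtype K))
    (ModuleCat.ofHom (Submodule.mkQ K)) (by
      ext x
      exact (Submodule.Quotient.mk_eq_zero _).2 x.2)

omit [IsNoetherianRing A] in
theorem seqA_shortExact (K : Ideal A) : (seqA K).ShortExact where
  exact := by
    rw [ShortComplex.moduleCat_exact_iff]
    intro x hx
    exact ⟨⟨x, (Submodule.Quotient.mk_eq_zero _).1 hx⟩, rfl⟩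
  mono_f := (ModuleCat.mono_iff_injective _).2 Subtype.val_injective
  epi_g := (ModuleCat.epi_iff_surjective _).2 (Submodule.Quotient.mk_surjective K)

theorem isGE_shift_zero (M : ModuleCat.{u} A) :
    (((G₀ (DRing.RgammaI J)).obj M)⟦z0⟧).IsGE 0 := by
  have h1 := HatKill.isGE_rgamma J M
  exact TStructure.t.isGE_shift ((DRing.RgammaI J).obj (Dual.inD A M)) 0 z0 0 (by simp)

omit [IsNoetherianRing A] in
/-- if `K` kills `x : A ⟶ X`, `X ∈ D^{≥ 0}`, then the restriction of `x` to `K` vanishes -/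
theorem restrict_eq_zero (K : Ideal A) (X : Dual.D A) [X.IsGE 0] (x : Dual.inD A A ⟶ X)
    (h : ∀ a ∈ K, a • x = 0) :
    (singleFunctor (ModuleCat.{u} A) 0).map (ModuleCat.ofHom (X := K) (Y := A)
      (Submodule.subtype K)) ≫ x = 0 := by
  apply (DCalc.homEquiv 0 ((singleFunctor (ModuleCat.{u} A) 0).obj (ModuleCat.of A K)) X).injective
  rw [DCalc.homEquiv_apply, DCalc.homEquiv_apply, Functor.map_zero]
  rw [← cancel_epi ((singleFunctorCompHomologyFunctorIso (ModuleCat.{u} A) 0).inv.app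
    (ModuleCat.of A K)), comp_zero]
  apply ModuleCat.hom_ext
  apply LinearMap.ext
  intro b
  change K at b
  let g : ModuleCat.of A A ⟶ ModuleCat.of A K := ModuleCat.ofHom (LinearMap.toSpanSingleton A K b)
  have hg : g ≫ ModuleCat.ofHom (X := K) (Y := A) (Submodule.subtype K) =
      (b : A) • 𝟙 (ModuleCat.of A A) := by
    apply ModuleCat.hom_ext
    apply LinearMap.ext_ring
    change ((1 : A) • b : K).1 = (b : A) • (1 : A)
    rw [one_smul, smul_eq_mul, mul_one]
  have key : g ≫ (singleFunctorCompHomologyFunctorIso (ModuleCat.{u} A) 0).inv.app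
      (ModuleCat.of A K) ≫ (homologyFunctor (ModuleCat.{u} A) 0).map
        ((singleFunctor (ModuleCat.{u} A) 0).map (ModuleCat.ofHom (X := K) (Y := A)
          (Submodule.subtype K)) ≫ x) = 0 := by
    have h1 := (singleFunctorCompHomologyFunctorIso (ModuleCat.{u} A) 0).inv.naturality g
    have h2 : (homologyFunctor (ModuleCat.{u} A) 0).map ((singleFunctor (ModuleCat.{u} A) 0).map g) ≫
        (homologyFunctor (ModuleCat.{u} A) 0).map
        ((singleFunctor (ModuleCat.{u} A) 0).map (ModuleCat.ofHom (X := K) (Y := A)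
          (Submodule.subtype K)) ≫ x) = 0 := by
      rw [← Functor.map_comp, ← Category.assoc, ← Functor.map_comp, hg, Functor.map_smul,
        CategoryTheory.Functor.map_id, Linear.smul_comp, Category.id_comp]
      have h3 := h _ b.2
      rw [h3, Functor.map_zero]
    rw [← Category.assoc]
    refine (congrArg (fun t => t ≫ (homologyFunctor (ModuleCat.{u} A) 0).map
        ((singleFunctor (ModuleCat.{u} A) 0).map (ModuleCat.ofHom (X := K) (Y := A)
          (Submodule.subtype K)) ≫ x)) h1).trans ?_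
    rw [Category.assoc]
    refine (congrArg (fun t => (singleFunctorCompHomologyFunctorIso (ModuleCat.{u} A) 0).inv.app
      (ModuleCat.of A A) ≫ t) h2).trans ?_
    exact comp_zero
  have h4 := congrArg (fun t => ModuleCat.Hom.hom t (1 : A)) key
  have h5 : g.hom (1 : A) = b := by
    change (1 : A) • b = b
    rw [one_smul]
  change ((singleFunctorCompHomologyFunctorIso (ModuleCat.{u} A) 0).inv.app
      (ModuleCat.of A K) ≫ (homologyFunctor (ModuleCat.{u} A) 0).map
        ((singleFunctor (ModuleCat.{u} A) 0).map (ModuleCat.ofHom (X := K) (Y := A)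
          (Submodule.subtype K)) ≫ x)).hom (g.hom (1 : A)) = 0 at h4
  rw [h5] at h4
  exact h4

theorem ev_injective (M : ModuleCat.{u} A) : Function.Injective (ev J M) := by
  rw [injective_iff_map_eq_zero]
  intro x hx
  rw [ev_apply] at hx
  have hx' : x ≫ ((DRing.RgammaIε J).app (Dual.inD A M))⟦z0⟧' = 0 :=
    (evM M).injective (hx.trans (map_zero _).symm)
  obtain ⟨k, hk⟩ := exists_smul_eq_zero J M x
  have hGE := isGE_shift_zero J M
  have hS := seqA_shortExact (J ^ k)
  -- the restriction to `J ^ k` vanishes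
  have h1 : (singleFunctor (ModuleCat.{u} A) 0).map (seqA (J ^ k)).f ≫ x = 0 :=
    restrict_eq_zero (J ^ k) _ x hk
  obtain ⟨y, hy⟩ := Triangle.yoneda_exact₂ _ hS.singleTriangle_distinguished x h1
  change (singleFunctor (ModuleCat.{u} A) 0).obj (seqA (J ^ k)).X₃ ⟶ _ at y
  change x = (singleFunctor (ModuleCat.{u} A) 0).map (seqA (J ^ k)).g ≫ y at hy
  have h8 : y ≫ ((DRing.RgammaIε J).app (Dual.inD A M))⟦z0⟧' = 0 := by
    have : Epi (seqA (J ^ k)).g := hS.epi_g
    have hGE' : (((𝟭 (Dual.D A)).obj (Dual.inD A M))⟦z0⟧).IsGE 0 :=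
      TStructure.t.isGE_shift (Dual.inD A M) 0 z0 0 (by simp)
    apply eq_zero_of_epi (seqA (J ^ k)).g
    rw [← Category.assoc, ← hy]
    exact hx'
  have h9 : y = 0 :=
    (coref_ε J (Dual.inD A M) z0).ext _ (tors_quot J k) y 0 (h8.trans zero_comp.symm)
  exact GMAbs.zero_right hy h9

theorem exists_ev (M : ModuleCat.{u} A) (m : M) (hm : m ∈ gam J M) : ∃ x, ev J M x = m := by
  obtain ⟨k, hk⟩ := hm
  let f : ModuleCat.of A (A ⧸ J ^ k) ⟶ M := RGammaHDI.lft J k m hk
  let q : ModuleCat.of A A ⟶ ModuleCat.of A (A ⧸ J ^ k) := ModuleCat.ofHom (Submodule.mkQ (J ^ k))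
  let e : Dual.inD A A ⟶ (Dual.inD A A)⟦z0⟧ := (evM (ModuleCat.of A A)).symm (1 : A)
  have he : evM (ModuleCat.of A A) e = (1 : A) := (evM (ModuleCat.of A A)).apply_symm_apply _
  obtain ⟨v, hv⟩ := (coref_ε J (Dual.inD A M) z0).exists_lift _
    (tors_shift J _ z0 (tors_quot J k)) (((singleFunctor (ModuleCat.{u} A) 0).map f)⟦z0⟧')
  refine ⟨(e ≫ ((singleFunctor (ModuleCat.{u} A) 0).map q)⟦z0⟧') ≫ v, ?_⟩
  have h1 : ((e ≫ ((singleFunctor (ModuleCat.{u} A) 0).map q)⟦z0⟧') ≫ v) ≫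
      ((DRing.RgammaIε J).app (Dual.inD A M))⟦z0⟧' =
      (e ≫ ((singleFunctor (ModuleCat.{u} A) 0).map q)⟦z0⟧') ≫
        ((singleFunctor (ModuleCat.{u} A) 0).map f)⟦z0⟧' := by
    rw [Category.assoc, hv]
  rw [ev_apply]
  refine (congrArg (evM M) h1).trans ?_
  refine (evM_map f _).trans ?_
  have h2 : evM (ModuleCat.of A (A ⧸ J ^ k)) (e ≫ ((singleFunctor (ModuleCat.{u} A) 0).map q)⟦z0⟧') =
      (Submodule.Quotient.mk (1 : A) : A ⧸ J ^ k) := (evM_map q e).trans (congrArg q.hom he)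
  exact (congrArg f.hom h2).trans (RGammaHDI.lft_one J k m hk)

end K164.EvZero
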