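import Mathlib.RingTheory.MvPolynomial.Homogeneous
import Mathlib.RingTheory.Ideal.Operations

/-!
# The graded map attached to a splitting `x = Σ f_j φ_j(x)` on `I ^ c`

`K164.GrSplit.Phi`: the maps `Φ_n : A → A[T_1, …, T_r]` with `Φ_0 = C` and `Φ_{n+1}(g) = Σ_j Φ_n(φ_j(g)) T_j`.
-/

set_option autoImplicit false
universe u

namespace K164.GrSplit

variable {A : Type u} [CommRing A] {r : ℕ} (I : Ideal A) (c : ℕ) (φ : Fin r → (↥(I ^ c) →ₗ[A] A))

open scoped Classical in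
/-- `φ_j` extended by zero. -/
noncomputable def ext (j : Fin r) (a : A) : A := if h : a ∈ I ^ c then φ j ⟨a, h⟩ else 0

lemma ext_of_mem (j : Fin r) {a : A} (h : a ∈ I ^ c) : ext I c φ j a = φ j ⟨a, h⟩ := by
  rw [ext, dif_pos h]

lemma ext_add (j : Fin r) {a b : A} (ha : a ∈ I ^ c) (hb : b ∈ I ^ c) :
    ext I c φ j (a + b) = ext I c φ j a + ext I c φ j b := by
  rw [ext_of_mem I c φ j ha, ext_of_mem I c φ j hb, ext_of_mem I c φ j (Ideal.add_mem _ ha hb), ← map_add]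
  rfl

lemma ext_mul (j : Fin r) (a : A) {b : A} (hb : b ∈ I ^ c) :
    ext I c φ j (a * b) = a * ext I c φ j b := by
  rw [ext_of_mem I c φ j hb, ext_of_mem I c φ j (Ideal.mul_mem_left _ a hb), ← smul_eq_mul a (φ j _),
    ← map_smul]
  rfl

lemma ext_mem (j : Fin r) (n : ℕ) {g : A} (hg : g ∈ I ^ ((n + 1) * c)) :
    ext I c φ j g ∈ I ^ (n * c) := by
  have h : I ^ ((n + 1) * c) = I ^ (n * c) * I ^ c := by rw [← pow_add]; congr 1; ring
  rw [h] at hg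
  have key : g ∈ I ^ c ∧ ext I c φ j g ∈ I ^ (n * c) := by
    refine Submodule.mul_induction_on (C := fun g => g ∈ I ^ c ∧ ext I c φ j g ∈ I ^ (n * c)) hg ?_ ?_
    · intro x hx y hy
      refine ⟨Ideal.mul_mem_left _ _ hy, ?_⟩
      rw [ext_mul I c φ j x hy]
      exact Ideal.mul_mem_right _ _ hx
    · rintro x y ⟨hx, hx'⟩ ⟨hy, hy'⟩
      refine ⟨Ideal.add_mem _ hx hy, ?_⟩
      rw [ext_add I c φ j hx hy]
      exact Ideal.add_mem _ hx' hy'
  exact key.2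

lemma le_pow (n : ℕ) : I ^ ((n + 1) * c) ≤ I ^ c :=
  Ideal.pow_le_pow_right (by nlinarith)

/-- The maps `Φ_n`. -/
noncomputable def Phi : ℕ → A → MvPolynomial (Fin r) A
  | 0, a => MvPolynomial.C a
  | n + 1, g => ∑ j, Phi n (ext I c φ j g) * MvPolynomial.X j

lemma Phi_zero (a : A) : Phi I c φ 0 a = MvPolynomial.C a := rfl

lemma Phi_succ (n : ℕ) (g : A) : Phi I c φ (n + 1) g = ∑ j, Phi I c φ n (ext I c φ j g) * MvPolynomial.X j := rfl

lemma Phi_one {g : A} (hg : g ∈ I ^ c) :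
    Phi I c φ 1 g = ∑ j, MvPolynomial.C (φ j ⟨g, hg⟩) * MvPolynomial.X j := by
  rw [Phi_succ]
  refine Finset.sum_congr rfl fun j _ => ?_
  rw [Phi_zero, ext_of_mem I c φ j hg]

lemma Phi_add (n : ℕ) : ∀ g ∈ I ^ (n * c), ∀ h ∈ I ^ (n * c),
    Phi I c φ n (g + h) = Phi I c φ n g + Phi I c φ n h := by
  induction n with
  | zero => intro g _ h _; simp [Phi_zero]
  | succ n ih =>
    intro g hg h hh
    rw [Phi_succ, Phi_succ, Phi_succ, ← Finset.sum_add_distrib]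
    refine Finset.sum_congr rfl fun j _ => ?_
    rw [ext_add I c φ j (le_pow I c n hg) (le_pow I c n hh),
      ih _ (ext_mem I c φ j n hg) _ (ext_mem I c φ j n hh), add_mul]

lemma Phi_smul (n : ℕ) : ∀ (a : A), ∀ g ∈ I ^ (n * c),
    Phi I c φ n (a * g) = a • Phi I c φ n g := by
  induction n with
  | zero => intro a g _; simp [Phi_zero, MvPolynomial.smul_eq_C_mul]
  | succ n ih =>
    intro a g hg
    rw [Phi_succ, Phi_succ, Finset.smul_sum]
    refine Finset.sum_congr rfl fun j _ => ?_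
    rw [ext_mul I c φ j a (le_pow I c n hg), ih a _ (ext_mem I c φ j n hg), smul_mul_assoc]

lemma Phi_homog (n : ℕ) : ∀ g, (Phi I c φ n g).IsHomogeneous n := by
  induction n with
  | zero => intro g; exact MvPolynomial.isHomogeneous_C _ _
  | succ n ih =>
    intro g
    rw [Phi_succ]
    exact MvPolynomial.IsHomogeneous.sum _ _ _ (fun j _ => (ih _).mul (MvPolynomial.isHomogeneous_X _ _))

lemma Phi_mul (n m : ℕ) : ∀ g ∈ I ^ (n * c), ∀ h ∈ I ^ (m * c),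
    Phi I c φ (n + m) (g * h) = Phi I c φ n g * Phi I c φ m h := by
  induction n with
  | zero =>
    intro g _ h hh
    rw [Nat.zero_add, Phi_smul I c φ m g h hh, Phi_zero, MvPolynomial.smul_eq_C_mul]
  | succ n ih =>
    intro g hg h hh
    have e : n + 1 + m = (n + m) + 1 := by ring
    rw [e, Phi_succ, Phi_succ, Finset.sum_mul]
    refine Finset.sum_congr rfl fun j _ => ?_
    rw [mul_comm g h, ext_mul I c φ j h (le_pow I c n hg), mul_comm h, ih _ (ext_mem I c φ j n hg) h hh]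
    ring

lemma aeval_Phi (f : Fin r → A) (hφ : ∀ x : ↥(I ^ c), (x : A) = ∑ j, f j * φ j x) (n : ℕ) :
    ∀ g ∈ I ^ (n * c), MvPolynomial.aeval f (Phi I c φ n g) = g := by
  induction n with
  | zero => intro g _; simp [Phi_zero]
  | succ n ih =>
    intro g hg
    rw [Phi_succ, map_sum]
    have h1 := hφ ⟨g, le_pow I c n hg⟩
    rw [show (⟨g, le_pow I c n hg⟩ : ↥(I ^ c)).1 = g from rfl] at h1
    refine Eq.trans ?_ h1.symm
    refine Finset.sum_congr rfl fun j _ => ?_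
    rw [map_mul, ih _ (ext_mem I c φ j n hg), MvPolynomial.aeval_X, ext_of_mem I c φ j (le_pow I c n hg), mul_comm]

theorem unique (Φ Ψ : ℕ → A → MvPolynomial (Fin r) A)
    (h1 : ∀ n : ℕ, ∀ g ∈ I ^ (n * c), ∀ h ∈ I ^ (n * c), Φ n (g + h) = Φ n g + Φ n h)
    (h4 : ∀ n m : ℕ, ∀ g ∈ I ^ (n * c), ∀ h ∈ I ^ (m * c), Φ (n + m) (g * h) = Φ n g * Φ m h)
    (h5 : ∀ a : A, Φ 0 a = MvPolynomial.C a)
    (h6 : ∀ (g : A) (hg : g ∈ I ^ c), Φ 1 g = ∑ j, MvPolynomial.C (φ j ⟨g, hg⟩) * MvPolynomial.X j)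
    (h1' : ∀ n : ℕ, ∀ g ∈ I ^ (n * c), ∀ h ∈ I ^ (n * c), Ψ n (g + h) = Ψ n g + Ψ n h)
    (h4' : ∀ n m : ℕ, ∀ g ∈ I ^ (n * c), ∀ h ∈ I ^ (m * c), Ψ (n + m) (g * h) = Ψ n g * Ψ m h)
    (h5' : ∀ a : A, Ψ 0 a = MvPolynomial.C a)
    (h6' : ∀ (g : A) (hg : g ∈ I ^ c), Ψ 1 g = ∑ j, MvPolynomial.C (φ j ⟨g, hg⟩) * MvPolynomial.X j)
    (n : ℕ) : ∀ g ∈ I ^ (n * c), Ψ n g = Φ n g := by
  induction n with
  | zero => intro g _; rw [h5, h5']
  | succ n ih =>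
    intro g hg
    have h : I ^ ((n + 1) * c) = I ^ (n * c) * I ^ (1 * c) := by rw [← pow_add]; congr 1; ring
    have hg' : g ∈ I ^ (n * c) * I ^ (1 * c) := h ▸ hg
    have key : g ∈ I ^ ((n + 1) * c) ∧ Ψ (n + 1) g = Φ (n + 1) g := by
      refine Submodule.mul_induction_on
        (C := fun g => g ∈ I ^ ((n + 1) * c) ∧ Ψ (n + 1) g = Φ (n + 1) g) hg' ?_ ?_
      · intro x hx y hy
        refine ⟨h ▸ Ideal.mul_mem_mul hx hy, ?_⟩
        have hy' : y ∈ I ^ c := by simpa using hy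
        rw [h4 n 1 x hx y hy, h4' n 1 x hx y hy, h6 y hy', h6' y hy', ih x hx]
      · rintro x y ⟨hx, hx'⟩ ⟨hy, hy'⟩
        refine ⟨Ideal.add_mem _ hx hy, ?_⟩
        rw [h1 (n + 1) x hx y hy, h1' (n + 1) x hx y hy, hx', hy']
    exact key.2

end K164.GrSplit
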