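import Groth.Agent.LocCoh.K164.DimBtw
import Groth.Agent.S1722
import Groth.Agent.LoccohA.DExtDepth
import Groth.Agent.LoccohA.DExtFin
import Mathlib.Data.Int.Interval

/-!
# Stabilisation of supports

For a Noetherian ring `A` with dualizing complex, ideals `I`, `J` and
`T = {p | V(p) ∩ V(I) ⊆ V(J)}`: under the depth conditions of the algebraization of local cohomology the primes
`p ∈ T`, `p ∉ V(I)` with `depth M_p ≤ s` lie in a closed subset `V(J₀) ⊆ T`, `J₀ ≤ J` (`exists_stab`).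
-/

set_option autoImplicit false
universe u

open CategoryTheory
attribute [local instance] HasDerivedCategory.standard

namespace K164.Stab

open LocCoh Groth.Agent.LoccohA Groth.Agent.LoccohA.DExt Formal2

variable {A : Type u} [CommRing A] [IsNoetherianRing A]

/-- the depth of `M` at `p` -/
noncomputable abbrev dep (p : PrimeSpectrum A) (M : Type u) [AddCommGroup M] [Module A M] : ℕ∞ :=
  LocCoh.depth (Localization.AtPrime p.asIdeal) (LocalizedModule p.asIdeal.primeCompl M)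

section Delta

variable (ω : Dual.D A)
  (hfin : ∀ (i : ℤ) (M : Type u) [AddCommGroup M] [Module A M] [Module.Finite A M],
    Module.Finite A (E ω i M))
  {δ : PrimeSpectrum A → ℤ}
  (hδ : ∀ (p : PrimeSpectrum A) (i : ℤ),
    p ∈ Module.support A (E ω i (A ⧸ p.asIdeal)) ↔ i = -δ p)

include hfin hδ in
/-- if `depth M_p ≤ s` then `p` is in the support of some `E^{-(δ p + k)}(M)`, `k ≤ s`. -/
theorem exists_mem_support (p : PrimeSpectrum A) (M : Type u) [AddCommGroup M] [Module A M]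
    [Module.Finite A M] (s : ℕ) (h : dep p M ≤ s) :
    ∃ k : ℕ, k ≤ s ∧ p ∈ Module.support A (E ω (-(δ p + k)) M) := by
  by_contra hcon
  push Not at hcon
  have h1 := (DExtDepth.natCast_le_depth_iff ω hfin hδ p M (s + 1)).2
    (fun k hk => by
      have := hcon k (by omega)
      rwa [neg_add, ← sub_eq_add_neg] at this)
  have h2 := h1.trans h
  have h3 : s + 1 ≤ s := by exact_mod_cast h2
  omega

include hfin hδ in
/-- if `p` is in the support of `E^{-c}(M)` then `δ p ≤ c` and `depth M_p ≤ c - δ p`. -/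
theorem dep_le_of_mem_support (p : PrimeSpectrum A) (M : Type u) [AddCommGroup M] [Module A M]
    [Module.Finite A M] (c : ℤ) (h : p ∈ Module.support A (E ω (-c) M)) :
    ∃ k : ℕ, c = δ p + k ∧ dep p M ≤ k := by
  have hle : δ p ≤ c := by
    by_contra hlt
    exact DExtDim.notMem_of_gt ω hfin hδ p M _ (by omega) h
  refine ⟨(c - δ p).toNat, by omega, ?_⟩
  by_contra hlt
  rw [not_le] at hlt
  have h3 : (((c - δ p).toNat + 1 : ℕ) : ℕ∞) ≤ dep p M := by
    push_cast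
    exact Order.add_one_le_of_lt hlt
  have h4 := (DExtDepth.natCast_le_depth_iff ω hfin hδ p M ((c - δ p).toNat + 1)).1 h3
    ((c - δ p).toNat) (by omega)
  refine h4 ?_
  have : -δ p - (((c - δ p).toNat : ℕ) : ℤ) = -c := by omega
  rwa [this]

end Delta

/-- `(s : ℕ) < dep + dimBetween` in terms of natural numbers. -/
theorem lt_add_iff (hdep : ℕ∞) (n s : ℕ) :
    (((s : ℕ) : ℕ∞) : WithBot ℕ∞) < ((hdep : ℕ∞) : WithBot ℕ∞) + ((n : ℕ) : WithBot ℕ∞) ↔ (s : ℕ∞) < hdep + n := by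
  have h : ((n : ℕ) : WithBot ℕ∞) = (((n : ℕ) : ℕ∞) : WithBot ℕ∞) := rfl
  rw [h, ← WithBot.coe_add, WithBot.coe_lt_coe]

/-- Stabilisation. -/
theorem exists_stab (hω : ∃ ω : Dual.D A, Dual.IsDualizing A ω) (I J : Ideal A)
    (M : Type u) [AddCommGroup M] [Module A M] [Module.Finite A M] (s d : ℕ)
    (T : Set (PrimeSpectrum A))
    (hT : ∀ p : PrimeSpectrum A, p ∈ T ↔ ∀ q : PrimeSpectrum A, p ≤ q → I ≤ q.asIdeal → J ≤ q.asIdeal)
    (h3 : ∀ p : PrimeSpectrum A, ¬ I ≤ p.asIdeal → p ∈ T → ∃ q : PrimeSpectrum A,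
      p ≤ q ∧ J ≤ q.asIdeal ∧ I ≤ q.asIdeal ∧ dimBetween A p.asIdeal q.asIdeal ≤ ((d : ℕ∞) : WithBot ℕ∞))
    (h4 : ∀ p : PrimeSpectrum A, ¬ I ≤ p.asIdeal → p ∉ T → ∀ q : PrimeSpectrum A,
      p ≤ q → J ≤ q.asIdeal → I ≤ q.asIdeal → (s : ℕ∞) ≤ dep p M ∨
        (((d + s : ℕ) : ℕ∞) : WithBot ℕ∞) < ((dep p M : ℕ∞) : WithBot ℕ∞) + dimBetween A p.asIdeal q.asIdeal) :
    ∃ J₀ : Ideal A, J₀ ≤ J ∧ (∀ p : PrimeSpectrum A, J₀ ≤ p.asIdeal → p ∈ T) ∧
      ∀ p : PrimeSpectrum A, p ∈ T → ¬ I ≤ p.asIdeal → dep p M ≤ s → J₀ ≤ p.asIdeal := by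
  classical
  obtain ⟨ω, hω⟩ := hω
  obtain ⟨δ, hδ, hcov⟩ := Groth.Agent.S1722.result A ω hω
  have hfin : ∀ (i : ℤ) (M : Type u) [AddCommGroup M] [Module A M] [Module.Finite A M],
      Module.Finite A (DExt.E ω i M) := fun i M _ _ _ => DExtFin.finite_E hω i M
  have hδ' : ∀ (p : PrimeSpectrum A) (i : ℤ),
      p ∈ Module.support A (DExt.E ω i (A ⧸ p.asIdeal)) ↔ i = -δ p := hδ
  obtain ⟨a, b, hab⟩ := hω.finite_injective_dimension
  let N : ℤ → Ideal A := fun i => Module.annihilator A (DExt.E ω i M)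
  have hN : ∀ (i : ℤ) (p : PrimeSpectrum A),
      p ∈ Module.support A (DExt.E ω i M) ↔ N i ≤ p.asIdeal := by
    intro i p
    have := hfin i M
    rw [Module.support_eq_zeroLocus]
    rfl
  have hrange : ∀ (i : ℤ) (p : PrimeSpectrum A), p ∈ Module.support A (E ω i M) → i ∈ Set.Icc a b := by
    intro i p hi
    by_contra hcon
    have : Subsingleton (E ω i M) := hab M i (by
      rw [Set.mem_Icc, not_and_or] at hcon; omega)
    rw [Module.support_eq_empty] at hi
    exact hi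
  let P : Set (Ideal A) := ⋃ i ∈ Set.Icc a b, (N i).minimalPrimes
  have hPfin : P.Finite := by
    refine Set.Finite.biUnion (Set.finite_Icc a b) fun j _ => ?_
    exact Ideal.finite_minimalPrimes_of_isNoetherianRing A _
  let P' : Set (Ideal A) := {Q | Q ∈ P ∧ ∃ hQ : Q.IsPrime, (⟨Q, hQ⟩ : PrimeSpectrum A) ∈ T}
  have hP'fin : P'.Finite := hPfin.subset fun Q hQ => hQ.1
  have hTup : ∀ p q : PrimeSpectrum A, p ≤ q → p ∈ T → q ∈ T := by
    intro p q hpq hp
    rw [hT] at hp ⊢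
    exact fun r hqr hr => hp r (hpq.trans hqr) hr
  refine ⟨J ⊓ hP'fin.toFinset.inf id, inf_le_left, ?_, ?_⟩
  · intro p hle
    rcases (p.isPrime.inf_le).1 hle with h | h
    · rw [hT]
      exact fun q hpq _ => h.trans hpq
    · obtain ⟨Q, hQ, hQp⟩ := (Ideal.IsPrime.inf_le' p.isPrime).1 h
      obtain ⟨-, hQpr, hQT⟩ := (hP'fin.mem_toFinset).1 hQ
      exact hTup ⟨Q, hQpr⟩ p hQp hQT
  · intro p hpT hIp hdep
    obtain ⟨q, hpq, hJq, hIq, hdim⟩ := h3 p hIp hpT
    obtain ⟨n, hn, hn'⟩ := DimBtw.exists_delta_eq hcov hpq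
    have hnd : n ≤ d := by
      rw [hn'] at hdim
      exact_mod_cast hdim
    obtain ⟨k, hks, hk⟩ := exists_mem_support ω hfin hδ' p M s hdep
    have hk2 := hk
    rw [hN] at hk2
    obtain ⟨Q, hQmin, hQp⟩ := Ideal.exists_minimalPrimes_le hk2
    let Q' : PrimeSpectrum A := ⟨Q, hQmin.1.1⟩
    have hQp' : Q' ≤ p := hQp
    have hQP : Q ∈ P := Set.mem_biUnion (hrange _ _ hk) hQmin
    have hQT : Q' ∈ T := by
      by_contra hnT
      have hIQ : ¬ I ≤ Q'.asIdeal := fun h => hIp (h.trans hQp)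
      obtain ⟨l, hl, hdepQ⟩ := dep_le_of_mem_support ω hfin hδ' Q' M (δ p + k)
        ((hN _ _).2 hQmin.1.2)
      have hle := DimFun.le_of_le hcov hQp'
      rcases h4 Q' hIQ hnT q (hQp'.trans hpq) hJq hIq with h5 | h5
      · have h6 : s ≤ l := by exact_mod_cast h5.trans hdepQ
        rcases hQp'.eq_or_lt with h7 | h7
        · exact hnT (h7 ▸ hpT)
        · have := DimFun.lt_of_lt hcov h7
          omega
      · obtain ⟨m, hm, hm'⟩ := DimBtw.exists_delta_eq hcov (hQp'.trans hpq)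
        rw [hm', lt_add_iff] at h5
        have h6 : ((d + s : ℕ) : ℕ∞) < ((l + m : ℕ) : ℕ∞) := by
          refine lt_of_lt_of_le h5 ?_
          push_cast
          gcongr
        have h7 : d + s < l + m := by exact_mod_cast h6
        omega
    exact (inf_le_right.trans (Finset.inf_le ((hP'fin.mem_toFinset).2 ⟨hQP, hQmin.1.1, hQT⟩))).trans hQp

end K164.Stab
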