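import Groth.Agent.LocCoh.K164.HatMain
import Groth.Agent.LocCoh.K164.CdDim
import Groth.Agent.LocCoh.K164.Stab
import Groth.Agent.LocCoh.K164.StabH

/-!
# Algebraization of local cohomology

The conclusion of the general statement (with the stabilising ideal `J₀`), without the condition (5).
-/

set_option autoImplicit false
universe u

open CategoryTheory

attribute [local instance] HasDerivedCategory.standard

namespace K164.Hat8808

open K164.Stab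

theorem main8808 (A : Type u) [CommRing A] [IsNoetherianRing A] (I : Ideal A) [IsAdicComplete I A]
    (hdc : ∃ ω : Dual.D A, Dual.IsDualizing A ω) [DRing.HasDerivedCompletion I] (J : Ideal A)
    (M : Type u) [AddCommGroup M] [Module A M] [Module.Finite A M] (s d : ℕ) (h3 : LocCoh.CdLE A I d)
    (T : Set (PrimeSpectrum A))
    (hT : ∀ p : PrimeSpectrum A, p ∈ T ↔ ∀ q : PrimeSpectrum A, p ≤ q → I ≤ q.asIdeal → J ≤ q.asIdeal)
    (h4 : ∀ p : PrimeSpectrum A, ¬ I ≤ p.asIdeal → p ∉ T → ∀ q : PrimeSpectrum A, p ≤ q →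
      J ≤ q.asIdeal → I ≤ q.asIdeal → (s : ℕ∞) ≤ LocCoh.depth (Localization.AtPrime p.asIdeal)
        (LocalizedModule p.asIdeal.primeCompl M) ∨ (((d + s : ℕ) : ℕ∞) : WithBot ℕ∞) <
        ((LocCoh.depth (Localization.AtPrime p.asIdeal) (LocalizedModule p.asIdeal.primeCompl M) : ℕ∞) :
          WithBot ℕ∞) + Formal2.dimBetween A p.asIdeal q.asIdeal) :
    ∃ J₀ : Ideal A, J₀ ≤ J ∧ PrimeSpectrum.zeroLocus ((J₀ : Ideal A) : Set A) ∩
      PrimeSpectrum.zeroLocus ((I : Ideal A) : Set A) = PrimeSpectrum.zeroLocus ((J : Ideal A) : Set A) ∩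
      PrimeSpectrum.zeroLocus ((I : Ideal A) : Set A) ∧ ∀ (J' : Ideal A) [DRing.HasRgammaI J'],
      J' ≤ J₀ → PrimeSpectrum.zeroLocus ((J' : Ideal A) : Set A) ∩
      PrimeSpectrum.zeroLocus ((I : Ideal A) : Set A) = PrimeSpectrum.zeroLocus ((J : Ideal A) : Set A) ∩
      PrimeSpectrum.zeroLocus ((I : Ideal A) : Set A) → ∀ i : ℤ, i ≤ s →
      Function.Bijective ((DerivedCategory.homologyFunctor (ModuleCat.{u} A) i).map
        (DRing.toDerivedCompletion I ((DRing.RgammaI J').obj (Dual.inD A M)))).hom := by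
  have hT3 : ∀ p : PrimeSpectrum A, ¬ I ≤ p.asIdeal → p ∈ T → ∃ q : PrimeSpectrum A,
      p ≤ q ∧ J ≤ q.asIdeal ∧ I ≤ q.asIdeal ∧
        Formal2.dimBetween A p.asIdeal q.asIdeal ≤ ((d : ℕ∞) : WithBot ℕ∞) := by
    intro p _ hpT
    obtain ⟨q, hpq, hIq, hdim⟩ := CdDim.exists_dimBetween_le I d h3 p
    exact ⟨q, hpq, (hT p).1 hpT q hpq hIq, hIq, hdim⟩
  obtain ⟨J₀, hJ₀, hJ₀T, hJ₀d⟩ := exists_stab hdc I J M s d T hT hT3 h4
  refine ⟨J₀, hJ₀, StabH.zeroLocus_eq hT hJ₀ hJ₀T, fun J' _ hJ' hV i hi => ?_⟩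
  -- `J ≤ q ↔ J' ≤ q` for `I ≤ q`
  have hJJ : ∀ q : PrimeSpectrum A, I ≤ q.asIdeal → (J' ≤ q.asIdeal ↔ J ≤ q.asIdeal) := by
    intro q hIq
    have h1 : q ∈ PrimeSpectrum.zeroLocus ((J' : Ideal A) : Set A) ∩
      PrimeSpectrum.zeroLocus ((I : Ideal A) : Set A) ↔
      q ∈ PrimeSpectrum.zeroLocus ((J : Ideal A) : Set A) ∩
      PrimeSpectrum.zeroLocus ((I : Ideal A) : Set A) := by rw [hV]
    constructor
    · intro h
      exact (h1.1 ⟨h, hIq⟩).1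
    · intro h
      exact (h1.2 ⟨h, hIq⟩).1
  refine HatMain.main J' hdc d h3 M s ?_ ?_ i hi
  · intro p hp hIp ⟨q₀, hq₀, hpq₀, hIq₀, hJq₀⟩ q hq hpq hJq hIq
    refine h4 ⟨p, hp⟩ hIp (fun hpT => ?_) ⟨q, hq⟩ hpq ((hJJ ⟨q, hq⟩ hIq).1 hJq) hIq
    exact hJq₀ ((hJJ ⟨q₀, hq₀⟩ hIq₀).2 ((hT ⟨p, hp⟩).1 hpT ⟨q₀, hq₀⟩ hpq₀ hIq₀))
  · intro p hp hTp hJp
    have hpT : (⟨p, hp⟩ : PrimeSpectrum A) ∈ T := (hT ⟨p, hp⟩).2 fun q hpq hIq =>
      (hJJ q hIq).1 (hTp q.asIdeal q.2 hpq hIq)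
    have hIp : ¬ I ≤ p := fun h => hJp (hTp p hp le_rfl h)
    by_contra hcon
    rw [not_le] at hcon
    have h5 : dep (⟨p, hp⟩ : PrimeSpectrum A) M ≤ s := by
      have h6 : dep (⟨p, hp⟩ : PrimeSpectrum A) M < ((s + 1 : ℕ) : ℕ∞) := hcon
      push_cast at h6
      exact ENat.lt_add_one_iff (ENat.natCast_ne_top s) |>.1 h6
    exact hJp (hJ'.trans (hJ₀d ⟨p, hp⟩ hpT hIp h5))

end K164.Hat8808
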