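import Groth.Agent.LocCoh.K164.PHom
import Groth.Agent.LocCoh.K164.EvZero
import Groth.Agent.FormalA.FormZero
import Groth.Agent.FormalA.AlgCoreJ
import Groth.Agent.S7048

/-!
# Comparison of `RΓ_J(M)` with its derived `I`-adic completion: degree zero and torsion modules

`A` Noetherian and `I`-adically complete, `P → A` the coreflection into the `I`-power torsion
objects.  `Hom(P, RΓ_J(M)⟦i⟧)` is `H^i` of the derived completion of `RΓ_J(M)`.
-/

set_option autoImplicit false
universe u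

open CategoryTheory Limits Opposite Pretriangulated

attribute [local instance] HasDerivedCategory.standard

namespace K164.HatCore

open Groth.Agent Groth.Agent.LoccohB Groth.Agent.S1814 Groth.Agent.LoccohB.RlimComp
  Groth.Agent.LoccohB.RGammaTors HatRefl EvZero PHom Groth.Agent.Localalg.Gam
  Groth.Agent.FormalA Groth.Agent.FormalA.AlgCore
open scoped Groth.Agent.LoccohB.RGammaTri

variable {A : Type u} [CommRing A] [IsNoetherianRing A] {I : Ideal A} (J : Ideal A)
  [DRing.HasRgammaI J] [DRing.HasDerivedCompletion I]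
  {P : Dual.D A} {ε : P ⟶ Dual.inD A A} (hε : GMAbs.IsCoref (Tors I) ε)
  (M : Type u) [AddCommGroup M] [Module A M] [Module.Finite A M]

/-- the map `RΓ_J(M) → RΓ_J(M/I^nM)`, in degree zero -/
noncomputable abbrev qn (I : Ideal A) (n : ℕ) :=
  ((G₀ (DRing.RgammaI J)).map (qM I M n))⟦z0⟧'

include hε in
omit [Module.Finite A M] in
theorem exists_comp (y : P ⟶ ((G₀ (DRing.RgammaI J)).obj (ModuleCat.of A M))⟦z0⟧) (n : ℕ) :
    ∃ y' : Dual.inD A A ⟶ (KM I J M n)⟦z0⟧, ε ≫ y' = y ≫ qn J M I n := by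
  obtain ⟨y', hy'⟩ := (bij_coref_shift I ε hε (KM I J M n) (complete_rgamma_quot I J M n) z0).2
    (y ≫ qn J M I n)
  exact ⟨y', hy'⟩

include hε in
omit [Module.Finite A M] in
theorem comp_unique {n : ℕ} {y y' : Dual.inD A A ⟶ (KM I J M n)⟦z0⟧} (h : ε ≫ y = ε ≫ y') :
    y = y' :=
  (bij_coref_shift I ε hε (KM I J M n) (complete_rgamma_quot I J M n) z0).1 h

include hε in
theorem exists_elem [IsAdicComplete I A]
    (y : P ⟶ ((G₀ (DRing.RgammaI J)).obj (ModuleCat.of A M))⟦z0⟧) :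
    ∃ m : M, (∀ (n : ℕ) (y' : Dual.inD A A ⟶ (KM I J M n)⟦z0⟧), ε ≫ y' = y ≫ qn J M I n →
      ev J ((quotM I M).obj (op n)) y' = (qM I M n).hom m) ∧
      ∀ n : ℕ, ∃ k : ℕ, ∀ a ∈ J ^ k, a • m ∈ (I ^ (n + 1) • ⊤ : Submodule A M) := by
  choose y' hy' using exists_comp J hε M y
  have hcomp : ∀ n : ℕ, y' (n + 1) ≫ (ProZ.tr (quotM I M ⋙ G₀ (DRing.RgammaI J)) n.le_succ)⟦z0⟧' =
      y' n := by
    intro n
    apply comp_unique J hε M
    rw [← Category.assoc, hy', hy', Category.assoc, ← Functor.map_comp,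
      hpM I M (DRing.RgammaI J) n.le_succ]
  have := FormalA.AdicFin.isAdicComplete_of_finite I (M := M)
  obtain ⟨m, hm⟩ := FormZero.exists_eq_mk (I := I) M inferInstance
    (fun n => ev J ((quotM I M).obj (op (n + 1))) (y' (n + 1))) (fun n => by
      have h1 := hcomp (n + 1)
      rw [← h1]
      exact (ev_map J ((quotM I M).map (homOfLE (n + 1).le_succ).op) (y' (n + 1 + 1))).symm)
  have hm' : ∀ n, ev J ((quotM I M).obj (op n)) (y' n) = (qM I M n).hom m := by
    intro n
    rcases n with _ | n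
    · have h1 : Subsingleton (M ⧸ (I ^ 0 • ⊤ : Submodule A M)) := by
        rw [Submodule.Quotient.subsingleton_iff, pow_zero, Ideal.one_eq_top,
          Submodule.top_smul]
      exact @Subsingleton.elim _ h1 _ _
    · exact (hm n).symm
  refine ⟨m, fun n z hz => ?_, fun n => ?_⟩
  · rw [← hm' n, comp_unique J hε M (hz.trans (hy' n).symm)]
  · obtain ⟨k, hk⟩ := ev_mem J ((quotM I M).obj (op (n + 1))) (y' (n + 1))
    refine ⟨k, fun a ha => ?_⟩
    have h1 := hk a ha
    rw [hm' (n + 1), ← map_smul] at h1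
    exact (Submodule.Quotient.mk_eq_zero _).mp h1

include hε in
/-- an element killing `m` kills `y` -/
theorem smul_eq_zero_of_elem
    (y : P ⟶ ((G₀ (DRing.RgammaI J)).obj (ModuleCat.of A M))⟦z0⟧) (m : M)
    (hm : ∀ (n : ℕ) (y' : Dual.inD A A ⟶ (KM I J M n)⟦z0⟧), ε ≫ y' = y ≫ qn J M I n →
      ev J ((quotM I M).obj (op n)) y' = (qM I M n).hom m) (f : A) (hf : f • m = 0) :
    f • y = 0 := by
  refine eq_zero_of_forall I J M ε hε (f • y) fun n => ?_
  obtain ⟨y', hy'⟩ := exists_comp J hε M y n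
  have h1 : f • y' = 0 := by
    apply ev_injective J
    rw [map_smul, map_zero, hm n y' hy', ← map_smul, hf, map_zero]
  rw [Linear.smul_comp]
  have h2 : ε ≫ (f • y') = f • (y ≫ qn J M I n) := by rw [Linear.comp_smul, hy']
  exact h2.symm.trans (by rw [h1, comp_zero])

include hε in
theorem eq_of_elem
    (y : P ⟶ ((G₀ (DRing.RgammaI J)).obj (ModuleCat.of A M))⟦z0⟧) (m : M)
    (hm : ∀ (n : ℕ) (y' : Dual.inD A A ⟶ (KM I J M n)⟦z0⟧), ε ≫ y' = y ≫ qn J M I n →
      ev J ((quotM I M).obj (op n)) y' = (qM I M n).hom m)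
    (x : Dual.inD A A ⟶ ((G₀ (DRing.RgammaI J)).obj (ModuleCat.of A M))⟦z0⟧)
    (hx : ev J (ModuleCat.of A M) x = m) : ε ≫ x = y := by
  rw [← sub_eq_zero]
  refine eq_zero_of_forall I J M ε hε _ fun n => ?_
  obtain ⟨y', hy'⟩ := exists_comp J hε M y n
  have h1 : x ≫ qn J M I n = y' := by
    apply ev_injective J
    refine (ev_map J (qM I M n) x).trans ?_
    rw [hm n y' hy', hx]
  have h2 : (ε ≫ x) ≫ qn J M I n = y ≫ qn J M I n := by rw [Category.assoc, h1, hy']
  rw [Preadditive.sub_comp]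
  exact sub_eq_zero.mpr h2

include hε in
theorem injective_zero [IsAdicComplete I A]
    (x : Dual.inD A A ⟶ ((G₀ (DRing.RgammaI J)).obj (ModuleCat.of A M))⟦z0⟧)
    (hx : ε ≫ x = 0) : x = 0 := by
  apply ev_injective J
  rw [map_zero]
  have := FormalA.AdicFin.isAdicComplete_of_finite I (M := M)
  refine IsHausdorff.haus (I := I) (M := M) inferInstance _ fun n => ?_
  rw [SModEq.zero]
  have h1 : x ≫ qn J M I n = 0 := by
    apply comp_unique J hε M
    rw [← Category.assoc, hx, zero_comp, comp_zero]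
  have h2 := ev_map J (qM I M n) x
  have h3 : ev J ((quotM I M).obj (op n)) (x ≫ qn J M I n) = 0 := by rw [h1, map_zero]
  have h4 := h2.symm.trans h3
  exact (Submodule.Quotient.mk_eq_zero _).mp h4

include hε in
/-- vanishing of degree zero near a prime `q ⊇ I` not containing `J` -/
theorem van_zero [IsAdicComplete I A] {q : Ideal A} [q.IsPrime] (hIq : I ≤ q) (hJq : ¬ J ≤ q)
    (y : P ⟶ ((G₀ (DRing.RgammaI J)).obj (ModuleCat.of A M))⟦z0⟧) :
    ∃ f : A, f ∉ q ∧ f • y = 0 := by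
  obtain ⟨m, hm, hk⟩ := exists_elem J hε M y
  obtain ⟨f, hf, h0⟩ := FormZero.exists_smul_eq_zero I J hIq hJq M m hk
  exact ⟨f, hf, smul_eq_zero_of_elem J hε M y m hm f h0⟩

include hε in
theorem surjective_zero [IsAdicComplete I A]
    (hd : ∀ (p : Ideal A) [p.IsPrime],
      (∀ q : Ideal A, q.IsPrime → p ≤ q → I ≤ q → J ≤ q) → ¬ J ≤ p → 1 ≤ dep p M)
    (y : P ⟶ ((G₀ (DRing.RgammaI J)).obj (ModuleCat.of A M))⟦z0⟧) :
    ∃ x : Dual.inD A A ⟶ ((G₀ (DRing.RgammaI J)).obj (ModuleCat.of A M))⟦z0⟧, ε ≫ x = y := by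
  obtain ⟨m, hm, hk⟩ := exists_elem J hε M y
  let V : Ideal A → Prop := fun p => J ≤ p
  let T : Ideal A → Prop := fun p => ∀ q : Ideal A, q.IsPrime → p ≤ q → I ≤ q → J ≤ q
  have hV : ∀ p q : Ideal A, p ≤ q → V p → V q := fun p q h1 h2 => h2.trans h1
  have hmT : m ∈ CohHom.tors T M := by
    intro p _ hp
    simp only [T, not_forall] at hp
    obtain ⟨q, hq, hpq, hIq, hJq⟩ := hp
    obtain ⟨f, hf, h0⟩ := FormZero.exists_smul_eq_zero I J hIq hJq M m hk
    exact ⟨f, fun hfp => hf (hpq hfp), h0⟩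
  have hmV : m ∈ CohHom.tors V M := by
    have h1 : ((CohHom.tors V M).mkQ m) = 0 := by
      refine CohHom.eq_zero_of_mem_tors (T := T) hV (M ⧸ CohHom.tors V M)
        (CohHom.eq_zero_of_mem_tors_quot M) (fun p _ h1 h2 => ?_) _ ?_
      · rw [← dep_congr_van (CohHom.tors V M).mkQ (Submodule.mkQ_surjective _) (fun m hm => ?_)]
        · exact hd p h1 h2
        · obtain ⟨f, hf, h⟩ := CohHom.van_tors M p h2 ⟨m, by simpa using hm⟩
          exact ⟨f, hf, congrArg Subtype.val h⟩
      · intro p _ hp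
        obtain ⟨f, hf, h0⟩ := hmT p hp
        exact ⟨f, hf, by rw [← map_smul, h0, map_zero]⟩
    simpa using h1
  obtain ⟨x, hx⟩ := exists_ev J (ModuleCat.of A M) m (FormZero.mem_gam_of_tors J M m hmV)
  exact ⟨x, eq_of_elem J hε M y m hm x hx⟩

omit [DRing.HasDerivedCompletion I] in
/-- finite torsion modules: `RΓ_J(M)` is complete -/
theorem complete_of_torsion [IsAdicComplete I A] (hM : LocCoh.IsPowerTorsion J M) :
    DRing.IsDerivedComplete I ((G₀ (DRing.RgammaI J)).obj (ModuleCat.of A M)) := by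
  have := FormalA.AdicFin.isAdicComplete_of_finite I (M := M)
  have h1 : IsTors J (Dual.inD A M) := by
    intro i
    by_cases hi : i = 0
    · subst hi
      exact isPowerTorsion_of_linearEquiv J
        ((DerivedCategory.singleFunctorCompHomologyFunctorIso (ModuleCat.{u} A) 0).app
          (ModuleCat.of A M)).symm.toLinearEquiv hM
    · have := subsingleton_single (A := A) M i hi
      exact fun x => ⟨0, fun a _ => Subsingleton.elim _ _⟩
  have h2 := isIso_ε_of_torsion J (Dual.inD A M) h1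
  exact complete_of_iso I (asIso ((DRing.RgammaIε J).app (Dual.inD A M))).symm
    (S7048.result I M)

end K164.HatCore
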