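import Groth.Agent.S1814
import Groth.Agent.S1812
import Groth.Agent.S1816
import Groth.Agent.LoccohA.TopDual
import Groth.Agent.LoccohA.FaltMod530
import Groth.Agent.LoccohA.LCTComp
import Groth.Agent.Localalg.DRingHom

/-!
# Annihilating the cohomology of derived completions

* `hat_kill`: `f` kills `H^i` of the derived `I`-adic completion of `K` as soon as `f` kills all
  morphisms `RΓ_I(A)⟦-i⟧ ⟶ K`;
* `exists_pow_smul_hom`: `f^N` kills the morphisms from objects in `D^{≤ n}` to `L` if `f` kills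
  `H^q(L)`, `q ≤ n` (and `L` is bounded below);
* `exists_pow_kill_hat`: the combination.
-/

set_option autoImplicit false
universe u
open CategoryTheory CategoryTheory.Limits Pretriangulated DerivedCategory

attribute [local instance] HasDerivedCategory.standard

namespace K164.HatKill

open Groth.Agent Groth.Agent.LoccohB Groth.Agent.S1814

variable {A : Type u} [CommRing A]

/-- morphisms into a shift of a complete object factor through the coreflection of the source -/
theorem bij_coref [IsNoetherianRing A] (I : Ideal A) [DRing.HasRgammaI I]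
    [DRing.HasDerivedCompletion I] {RK K : Dual.D A} (ε : RK ⟶ K)
    (hε : GMAbs.IsCoref (Tors I) ε) (Z : Dual.D A) (hZ : DRing.IsDerivedComplete I Z) :
    Function.Bijective (fun u : K ⟶ Z => ε ≫ u) := by
  obtain ⟨s, hs⟩ := IsNoetherian.noetherian I
  let l : List A := s.toList
  have hl : Ideal.span {f | f ∈ l} = I := by
    rw [← hs]
    congr 1
    ext f
    simp [l]
  have hlI : ∀ f ∈ l, f ∈ I := fun f hf => hl ▸ Ideal.subset_span hf
  have hCN := GMAbs.orth_CN (Tors I) (DRing.IsDerivedComplete I) (tors_shift I)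
    (complete_shift I) l (tors_of_nil I l hl)
    (fun Y hY f hf v hv => orth_of_isZero (isZero_of_complete I f (hlI f hf) Y hY v hv))
    (fun K => ⟨_, _, exists_refl I K⟩) l (fun f hf => hf)
  exact GMAbs.bijective_coref_comp (Tors I) (DRing.IsDerivedComplete I) (tors_shift I)
    (complete_shift I) (fun X hX => hCN X (fun f hf => Or.inl hf) hX) ε hε Z hZ

theorem bij_refl [IsNoetherianRing A] (I : Ideal A) [DRing.HasRgammaI I]
    {K LK : Dual.D A} (η : K ⟶ LK)
    (hη : GMAbs.IsRefl (DRing.IsDerivedComplete I) η) (Z : Dual.D A) (hZ : Tors I Z) :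
    Function.Bijective (fun u : Z ⟶ K => u ≫ η) := by
  obtain ⟨s, hs⟩ := IsNoetherian.noetherian I
  let l : List A := s.toList
  have hl : Ideal.span {f | f ∈ l} = I := by
    rw [← hs]
    congr 1
    ext f
    simp [l]
  have hlI : ∀ f ∈ l, f ∈ I := fun f hf => hl ▸ Ideal.subset_span hf
  have hPX := GMAbs.orth_PX (Tors I) (DRing.IsDerivedComplete I) (complete_shift I) l
    (complete_of_nil I l hl)
    (fun Y hY f hf v hv => orth_of_isZero (isZero_of_tors I f (hlI f hf) Y hY v hv))
    (fun K => by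
      obtain ⟨ε, hε⟩ := exists_coref I K
      exact ⟨_, ε, hε⟩) l (fun f hf => hf)
  exact GMAbs.bijective_comp_refl (Tors I) (DRing.IsDerivedComplete I) (tors_shift I)
    (complete_shift I) (fun X hX => hPX X (fun f hf => Or.inl hf) hX) η hη Z hZ

/-- killing the cohomology of the derived completion -/
theorem hat_kill [IsNoetherianRing A] (I : Ideal A) [DRing.HasRgammaI I]
    {K LK : Dual.D A} (η : K ⟶ LK) [DRing.HasDerivedCompletion I]
    (hη : GMAbs.IsRefl (DRing.IsDerivedComplete I) η) (f : A) (i : ℤ)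
    (h : ∀ u : ((DRing.RgammaI I).obj (Dual.inD A A))⟦(-i : ℤ)⟧ ⟶ K, f • u = 0)
    (x : Dual.HD A LK i) : f • x = 0 := by
  obtain ⟨ε, hε⟩ := exists_coref I (Dual.inD A A)
  obtain ⟨v, rfl⟩ := (Localalg.DRingHom.ringEquiv A LK i).surjective x
  rw [← map_smul]
  suffices f • v = 0 by rw [this, map_zero]
  apply (bij_coref I ε hε (LK⟦i⟧) (complete_shift I _ i hη.mem)).1
  simp only
  rw [Linear.comp_smul, comp_zero]
  -- shift
  let e : LK⟦i⟧⟦(-i : ℤ)⟧ ≅ LK := (shiftFunctorCompIsoId (Dual.D A) i (-i) (by simp)).app LK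
  let w := (shiftFunctor (Dual.D A) (-i)).map (ε ≫ v) ≫ e.hom
  obtain ⟨u, hu⟩ := (bij_refl I η hη _ (tors_shift I _ (-i) hε.mem)).2 w
  simp only at hu
  have h1 : f • w = 0 := by
    rw [← hu, ← Linear.smul_comp, h u, zero_comp]
  have h2 : (shiftFunctor (Dual.D A) (-i)).map (f • (ε ≫ v)) = 0 := by
    rw [Functor.map_smul, ← cancel_mono e.hom, Linear.smul_comp, zero_comp]
    exact h1
  exact (shiftFunctor (Dual.D A) (-i)).map_injective (by rw [h2, Functor.map_zero])

/-- morphisms from `D^{≤ n}` are killed by a power of an element killing `H^q`, `q ≤ n`. -/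
theorem exists_pow_smul_hom (L : Dual.D A) (c n : ℤ) [hc : L.IsGE c] (f : A)
    (h : ∀ q : ℤ, q ≤ n → ∀ x : Dual.HD A L q, f • x = 0) :
    ∃ N : ℕ, ∀ (G : Dual.D A) (_ : G.IsLE n) (u : G ⟶ L), f ^ N • u = 0 := by
  have h1 : IsGE ((TStructure.t.truncLE n).obj L) c := by
    change TStructure.t.IsGE _ _
    have : TStructure.t.IsGE L c := hc
    infer_instance
  have h2 : IsLE ((TStructure.t.truncLE n).obj L) n := by
    change TStructure.t.IsLE _ _
    infer_instance
  obtain ⟨N, hN⟩ := LoccohA.TopDual.exists_pow_smul_id f ((TStructure.t.truncLE n).obj L) c n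
    (fun i x => by
      by_cases hi : i ≤ n
      · have := DCalc.isIso_homology_truncLEι L n i hi
        let e := (asIso ((homologyFunctor (ModuleCat.{u} A) i).map
          ((TStructure.t.truncLEι n).app L))).toLinearEquiv
        apply e.injective
        rw [map_smul, map_zero]
        exact h i hi (e x)
      · have h3 : IsZero ((homologyFunctor (ModuleCat.{u} A) i).obj
            ((TStructure.t.truncLE n).obj L)) := isZero_of_isLE _ n i (by omega)
        have := ModuleCat.subsingleton_of_isZero h3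
        exact Subsingleton.elim _ _)
  refine ⟨N, fun G hG u => ?_⟩
  have hT := TStructure.t.triangleLEGE_distinguished n (n + 1) rfl L
  have hG' : TStructure.t.IsLE G n := hG
  have h3 : u ≫ (TStructure.t.truncGEπ (n + 1)).app L = 0 := by
    have : TStructure.t.IsGE ((TStructure.t.truncGE (n + 1)).obj L) (n + 1) := by infer_instance
    exact TStructure.t.zero _ n (n + 1) (by omega)
  obtain ⟨w, hw⟩ := Triangle.coyoneda_exact₂ _ hT u h3
  change G ⟶ (TStructure.t.truncLE n).obj L at w
  change u = w ≫ (TStructure.t.truncLEι n).app L at hw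
  rw [hw, ← Linear.smul_comp, ← Category.comp_id w, ← Linear.comp_smul, hN, comp_zero, zero_comp]

/-- `H^q(RΓ_I(M)) = H^q_I(M)`. -/
noncomputable def hdEquiv [IsNoetherianRing A] (I : Ideal A) [DRing.HasRgammaI I] (M : Type u)
    [AddCommGroup M] [Module A M] (q : ℕ) :
    Dual.HD A ((DRing.RgammaI I).obj (Dual.inD A M)) q ≃ₗ[A] LocCoh.H I q M :=
  (Classical.choice (S1812.result A I (IsNoetherian.noetherian I) (Dual.inD A M) q)).trans
    (LoccohA.LCTComp.Hequiv I q M).symm

theorem isGE_rgamma [IsNoetherianRing A] (I : Ideal A) [DRing.HasRgammaI I] (M : Type u)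
    [AddCommGroup M] [Module A M] :
    ((DRing.RgammaI I).obj (Dual.inD A M)).IsGE 0 := by
  rw [DerivedCategory.isGE_iff]
  intro i hi
  rw [ModuleCat.isZero_iff_subsingleton]
  obtain ⟨e⟩ := S1812.result A I (IsNoetherian.noetherian I) (Dual.inD A M) i
  refine ⟨fun x y => ?_⟩
  apply e.injective
  rw [LoccohA.FaltMod530.HDI_eq_zero_of_neg I M i hi (e x),
    LoccohA.FaltMod530.HDI_eq_zero_of_neg I M i hi (e y)]

theorem isLE_rgamma [IsNoetherianRing A] (I : Ideal A) [DRing.HasRgammaI I] (M : Type u)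
    [AddCommGroup M] [Module A M] (d : ℕ) (hd : ∀ i : ℕ, d < i → Subsingleton (LocCoh.H I i M)) :
    ((DRing.RgammaI I).obj (Dual.inD A M)).IsLE d := by
  rw [DerivedCategory.isLE_iff]
  intro i hi
  rw [ModuleCat.isZero_iff_subsingleton]
  obtain ⟨n, rfl⟩ := Int.eq_ofNat_of_zero_le (show (0 : ℤ) ≤ i by omega)
  have := hd n (by exact_mod_cast hi)
  exact (hdEquiv I M n).toEquiv.subsingleton

/-- If `f` kills `H^q_{J+I}(M)` for `q ≤ d + s` and `cd(A, I) ≤ d` then a power of `f` kills the
cohomology of the derived `I`-completion of `RΓ_J(M)` in degrees `≤ s`. -/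
theorem exists_pow_kill_hat [IsNoetherianRing A] (I J : Ideal A) [DRing.HasRgammaI J]
    [DRing.HasDerivedCompletion I] (M : Type u) [AddCommGroup M] [Module A M] (d s : ℕ)
    (hd : LocCoh.CdLE A I d) (f : A)
    (hf : ∀ q : ℕ, q ≤ d + s → ∀ x : LocCoh.H (J ⊔ I) q M, f • x = 0) :
    ∃ N : ℕ, ∀ i : ℤ, i ≤ s → ∀ x : Dual.HD A
      ((DRing.derivedCompletion I).obj ((DRing.RgammaI J).obj (Dual.inD A M))).obj i,
      f ^ N • x = 0 := by
  have hRI : DRing.HasRgammaI I := hasRgammaI I
  have hRS : DRing.HasRgammaI (J ⊔ I) := hasRgammaI _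
  let K := (DRing.RgammaI J).obj (Dual.inD A M)
  obtain ⟨ε, hε⟩ := exists_coref I K
  obtain ⟨e⟩ := S1816.result A J I (Dual.inD A M)
  -- `L = RΓ_I RΓ_J M`
  have hGE : ((DRing.RgammaI I).obj K).IsGE 0 := by
    have h1 := isGE_rgamma (J ⊔ I) M
    rw [DerivedCategory.isGE_iff] at h1 ⊢
    intro i hi
    exact (h1 i hi).of_iso ((homologyFunctor (ModuleCat.{u} A) i).mapIso e)
  obtain ⟨N, hN⟩ := exists_pow_smul_hom ((DRing.RgammaI I).obj K) 0 (d + s : ℤ) f (by
    intro q hq x
    by_cases h0 : q < 0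
    · have := ModuleCat.subsingleton_of_isZero (isZero_of_isGE ((DRing.RgammaI I).obj K) 0 q h0)
      exact Subsingleton.elim _ _
    · obtain ⟨n, rfl⟩ := Int.eq_ofNat_of_zero_le (not_lt.1 h0)
      let e1 := ((homologyFunctor (ModuleCat.{u} A) n).mapIso e).toLinearEquiv.trans
        (hdEquiv (J ⊔ I) M n)
      apply e1.injective
      rw [map_smul, map_zero]
      exact hf n (by exact_mod_cast hq) _)
  refine ⟨N, fun i hi x => ?_⟩
  refine hat_kill I (DRing.toDerivedCompletion I K) (exists_refl I K) (f ^ N) i ?_ x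
  intro u
  obtain ⟨v, hv⟩ := hε.exists_lift _ (tors_shift I _ (-i) (exists_coref I (Dual.inD A A)).choose_spec.mem) u
  have hLE := isLE_rgamma I A d (fun i hi => hd A i hi)
  have hLE' : (((DRing.RgammaI I).obj (Dual.inD A A))⟦(-i : ℤ)⟧).IsLE (d + s : ℤ) := by
    have h1 := TStructure.t.isLE_shift ((DRing.RgammaI I).obj (Dual.inD A A)) d (-i) (d + i) (by omega)
    exact TStructure.t.isLE_of_le _ (d + i) (d + s) (by omega)
  rw [← hv, ← Linear.smul_comp, hN _ hLE' v, zero_comp]

end K164.HatKill
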