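import Groth.Agent.S8793
import Groth.Agent.LocCoh.K164.DepMono

/-!
# Annihilation over a local ring (reduction to the general statement)
-/

set_option autoImplicit false
universe u
open CategoryTheory
attribute [local instance] HasDerivedCategory.standard

namespace K164.HatLoc

open LocCoh

theorem main (A : Type u) [CommRing A] [IsNoetherianRing A] [IsLocalRing A]
    (hdc : ∃ ω : Dual.D A, Dual.IsDualizing A ω) (I : Ideal A)
    [DRing.HasRgammaI (IsLocalRing.maximalIdeal A)] [DRing.HasDerivedCompletion I] (M : Type u)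
    [AddCommGroup M] [Module A M] [Module.Finite A M] (p : PrimeSpectrum A) (s d : ℕ)
    (h2 : LocCoh.CdLE A I d)
    (h3 : (((d + s : ℕ) : ℕ∞) : WithBot ℕ∞) < ((LocCoh.depth (Localization.AtPrime p.asIdeal)
      (LocalizedModule p.asIdeal.primeCompl M) : ℕ∞) : WithBot ℕ∞) + ringKrullDim (A ⧸ p.asIdeal)) :
    ∃ f : A, f ∉ p.asIdeal ∧ ∀ i : ℤ, i ≤ s → ∀ x : Dual.HD A ((DRing.derivedCompletion I).obj
      ((DRing.RgammaI (IsLocalRing.maximalIdeal A)).obj (Dual.inD A M))).obj i, f • x = 0 := by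
  have hle : p ≤ IsLocalRing.closedPoint A := IsLocalRing.le_maximalIdeal p.2.ne_top
  have hbt : Formal2.dimBetween A p.asIdeal (IsLocalRing.closedPoint A).asIdeal = ringKrullDim (A ⧸ p.asIdeal) := by
    obtain ⟨ω, hω⟩ := hdc
    obtain ⟨δ, -, hcov⟩ := Groth.Agent.S1722.result A ω hω
    obtain ⟨n, hn, hn'⟩ := DimBtw.exists_delta_eq hcov hle
    rw [hn', (Groth.Agent.LoccohA.DimFun.dim_quotient hcov p n).2 hn]
  have hcl : ∀ q : PrimeSpectrum A, IsLocalRing.maximalIdeal A ≤ q.asIdeal → q = IsLocalRing.closedPoint A :=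
    fun q hq => PrimeSpectrum.ext
      ((IsLocalRing.maximalIdeal.isMaximal A).eq_of_le q.isPrime.ne_top hq).symm
  rw [← hbt] at h3
  by_cases hI : I = ⊤
  · refine Groth.Agent.S8793.result A hdc I (IsLocalRing.maximalIdeal A) M p s d ?_ h2 ?_
    · rintro ⟨-, h⟩
      rw [hI, top_le_iff] at h
      exact p.isPrime.ne_top h
    · intro p' _ q _ _ h
      rw [hI, top_le_iff] at h
      exact absurd h q.isPrime.ne_top
  by_cases hp : p = IsLocalRing.closedPoint A
  · subst hp
    have h4 : ((d + s : ℕ) : ℕ∞) < Stab.dep (IsLocalRing.closedPoint A) M := by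
      obtain ⟨ω, hω⟩ := hdc
      obtain ⟨δ, -, hcov⟩ := Groth.Agent.S1722.result A ω hω
      obtain ⟨n, hn, hn'⟩ := DimBtw.exists_delta_eq hcov hle
      rw [hn', Stab.lt_add_iff] at h3
      have : n = 0 := by omega
      subst this
      simpa using h3
    have hsup : IsLocalRing.maximalIdeal A ⊔ I = IsLocalRing.maximalIdeal A :=
      sup_eq_left.2 (IsLocalRing.le_maximalIdeal hI)
    obtain ⟨N, hN⟩ := HatKill.exists_pow_kill_hat I (IsLocalRing.maximalIdeal A) M d s h2 1 (by
      rw [hsup]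
      intro q hq x
      have := DepMono.subsingleton_H_maximalIdeal M (d + s) h4 q hq
      exact Subsingleton.elim _ _)
    refine ⟨1 ^ N, ?_, hN⟩
    rw [one_pow]
    exact (Ideal.ne_top_iff_one _).1 (IsLocalRing.closedPoint A).isPrime.ne_top
  · refine Groth.Agent.S8793.result A hdc I (IsLocalRing.maximalIdeal A) M p s d ?_ h2 ?_
    · rintro ⟨h, -⟩
      exact hp (hcl p h)
    · intro p' hp' q hq hm _
      have := hcl q hm
      subst this
      exact DepMono.lt_dep_add_of_le hdc M (d + s) hp' hle h3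

end K164.HatLoc
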