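import Groth.Agent.LocCoh.K164.HatCore
import Groth.Agent.LocCoh.K164.DepMono
import Groth.Agent.LocCoh.K164.DimBtw
import Groth.Agent.S1765
import Groth.Agent.S1815

/-!
# Comparison of `RΓ_J(M)` with its derived `I`-adic completion
-/

set_option autoImplicit false
universe u

open CategoryTheory Limits Opposite Pretriangulated

attribute [local instance] HasDerivedCategory.standard

namespace K164.HatMain

open Groth.Agent Groth.Agent.LoccohB Groth.Agent.S1814 Groth.Agent.LoccohB.RlimComp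
  Groth.Agent.LoccohB.RGammaTors HatRefl EvZero PHom HatCore Groth.Agent.Localalg.Gam
  Groth.Agent.FormalA Groth.Agent.FormalA.AlgCore
open scoped Groth.Agent.LoccohB.RGammaTri

variable {A : Type u} [CommRing A] [IsNoetherianRing A] {I : Ideal A} (J : Ideal A)
  [DRing.HasRgammaI J] [DRing.HasDerivedCompletion I]

omit [DRing.HasDerivedCompletion I] in
/-- If `f` kills `H^q_{J+I}(M)` for `q ≤ d + s` and `cd(A, I) ≤ d` then a power of `f` kills
`Hom(P, RΓ_J(M)⟦i⟧)` for `i ≤ s` (`P → A` the coreflection). -/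
theorem exists_pow_smul_P {P : Dual.D A} {ε : P ⟶ Dual.inD A A}
    (hε : GMAbs.IsCoref (Tors I) ε) (M : Type u) [AddCommGroup M] [Module A M] (d s : ℕ)
    (hd : LocCoh.CdLE A I d) (f : A)
    (hf : ∀ q : ℕ, q ≤ d + s → ∀ x : LocCoh.H (J ⊔ I) q M, f • x = 0) :
    ∃ N : ℕ, ∀ i : ℤ, i ≤ s → ∀ x : P ⟶ ((G₀ (DRing.RgammaI J)).obj (ModuleCat.of A M))⟦i⟧,
      f ^ N • x = 0 := by
  have hRI : DRing.HasRgammaI I := hasRgammaI I
  have hRS : DRing.HasRgammaI (J ⊔ I) := hasRgammaI _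
  let K := (DRing.RgammaI J).obj (Dual.inD A M)
  obtain ⟨ε', hε'⟩ := exists_coref I K
  obtain ⟨e⟩ := S1816.result A J I (Dual.inD A M)
  have hGE : ((DRing.RgammaI I).obj K).IsGE 0 := by
    have h1 := HatKill.isGE_rgamma (J ⊔ I) M
    rw [DerivedCategory.isGE_iff] at h1 ⊢
    intro i hi
    exact (h1 i hi).of_iso ((DerivedCategory.homologyFunctor (ModuleCat.{u} A) i).mapIso e)
  obtain ⟨N, hN⟩ := HatKill.exists_pow_smul_hom ((DRing.RgammaI I).obj K) 0 (d + s : ℤ) f (by
    intro q hq x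
    by_cases h0 : q < 0
    · have := ModuleCat.subsingleton_of_isZero
        (DerivedCategory.isZero_of_isGE ((DRing.RgammaI I).obj K) 0 q h0)
      exact Subsingleton.elim _ _
    · obtain ⟨n, rfl⟩ := Int.eq_ofNat_of_zero_le (not_lt.1 h0)
      let e1 := ((DerivedCategory.homologyFunctor (ModuleCat.{u} A) n).mapIso e).toLinearEquiv.trans
        (HatKill.hdEquiv (J ⊔ I) M n)
      apply e1.injective
      rw [map_smul, map_zero]
      exact hf n (by exact_mod_cast hq) _)
  -- `P ≅ RΓ_I(A)`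
  obtain ⟨ε₀, hε₀⟩ := exists_coref I (Dual.inD A A)
  obtain ⟨a, ha⟩ := hε₀.exists_lift P hε.mem ε
  obtain ⟨b, hb⟩ := hε.exists_lift _ hε₀.mem ε₀
  have hab : a ≫ b = 𝟙 P := hε.ext _ hε.mem _ _ (by rw [Category.assoc, hb, ha, Category.id_comp])
  have hLE := HatKill.isLE_rgamma I A d (fun i hi => hd A i hi)
  refine ⟨N, fun i hi x => ?_⟩
  have hLE' : (((DRing.RgammaI I).obj (Dual.inD A A))⟦(-i : ℤ)⟧).IsLE (d + s : ℤ) := by
    have h1 := DerivedCategory.TStructure.t.isLE_shift ((DRing.RgammaI I).obj (Dual.inD A A)) d (-i)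
      (d + i) (by omega)
    exact DerivedCategory.TStructure.t.isLE_of_le _ (d + i) (d + s) (by omega)
  -- unshift `b ≫ x`
  let e : ((DRing.RgammaI I).obj (Dual.inD A A))⟦(-i : ℤ)⟧⟦i⟧ ≅ (DRing.RgammaI I).obj (Dual.inD A A) :=
    (shiftFunctorCompIsoId (Dual.D A) (-i) i (by simp)).app _
  obtain ⟨w, hw⟩ := (shiftFunctor (Dual.D A) i).map_surjective (e.hom ≫ b ≫ x)
  obtain ⟨v, hv⟩ := hε'.exists_lift _ (tors_shift I _ (-i) hε₀.mem) w
  have h1 : f ^ N • w = 0 := by
    rw [← hv, ← Linear.smul_comp, hN _ hLE' v, zero_comp]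
  have h2 : f ^ N • (e.hom ≫ b ≫ x) = 0 := by
    rw [← hw, ← Functor.map_smul, h1, Functor.map_zero]
  have h3 : f ^ N • (b ≫ x) = 0 := by
    rw [← cancel_epi e.hom, Linear.comp_smul, h2, comp_zero]
  rw [← Category.id_comp x, ← hab, Category.assoc, ← Linear.comp_smul, h3, comp_zero]

omit [DRing.HasDerivedCompletion I] in
/-- goodness of a prime -/
theorem good (hω : ∃ ω : Dual.D A, Dual.IsDualizing A ω) {P : Dual.D A} {ε : P ⟶ Dual.inD A A}
    (hε : GMAbs.IsCoref (Tors I) ε) (p : Ideal A) [hp : p.IsPrime] (hJp : ¬ J ≤ p) (d k : ℕ)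
    (hd : LocCoh.CdLE A I d)
    (h : ∀ (q : Ideal A) [q.IsPrime], p ≤ q → J ≤ q → I ≤ q →
      (((d + k : ℕ) : ℕ∞) : WithBot ℕ∞) < Formal2.dimBetween A p q) :
    (cohP J P).Good p k := by
  obtain ⟨f, hfp, hf⟩ := S1765.result A hω (J ⊔ I) (A ⧸ p) ⟨p, hp⟩
    (fun hle => hJp (le_sup_left.trans hle)) (d + k) (by
      intro p' q hp' hq hle
      by_cases heq : p' = ⟨p, hp⟩
      · subst heq
        have h1 := h q.asIdeal hle (le_sup_left.trans hq) (le_sup_right.trans hq)
        rw [DimBtw.dimBetween_eq_krullDim_Icc hle] at h1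
        refine h1.trans_le ?_
        have h2 : (0 : WithBot ℕ∞) ≤ ((LocCoh.depth (Localization.AtPrime p)
          (LocalizedModule p.primeCompl (A ⧸ p)) : ℕ∞) : WithBot ℕ∞) := by
          exact_mod_cast bot_le
        calc _ = 0 + Order.krullDim (Set.Icc (⟨p, hp⟩ : PrimeSpectrum A) q) := (zero_add _).symm
          _ ≤ _ := by gcongr
      · have hlt : ¬ p ≤ p'.asIdeal := fun hle' => heq (le_antisymm hp' hle')
        have h1 : Van p'.asIdeal (A ⧸ p) := by
          obtain ⟨g, hg, hg'⟩ := SetLike.not_le_iff_exists.mp hlt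
          refine van_of_smul hg' fun x => ?_
          obtain ⟨y, rfl⟩ := Ideal.Quotient.mk_surjective x
          rw [Algebra.smul_def]
          change Ideal.Quotient.mk p g * _ = 0
          rw [Ideal.Quotient.eq_zero_iff_mem.mpr hg, zero_mul]
        have h2 := dep_eq_top h1
        have h3 : LocCoh.depth (Localization.AtPrime p'.asIdeal)
          (LocalizedModule p'.asIdeal.primeCompl (A ⧸ p)) = ⊤ := h2
        rw [h3, ← DimBtw.dimBetween_eq_krullDim_Icc hle]
        have h4 := StabH.zero_le_dimBetween hle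
        calc (((d + k : ℕ) : ℕ∞) : WithBot ℕ∞) < ((⊤ : ℕ∞) : WithBot ℕ∞) := by
              exact_mod_cast ENat.natCast_lt_top (d + k)
          _ = ((⊤ : ℕ∞) : WithBot ℕ∞) + 0 := (add_zero _).symm
          _ ≤ _ := by gcongr)
  obtain ⟨N, hN⟩ := exists_pow_smul_P J hε (A ⧸ p) d k hd f hf
  intro i hi
  exact van_of_smul (f := f ^ N) (fun h => hfp (hp.mem_of_pow_mem N h))
    (fun x => hN i (by exact_mod_cast hi) x)

omit [DRing.HasDerivedCompletion I] in
/-- `H^i(RΓ_J(M))` vanishes outside `V(J)` -/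
theorem van_H (M : Type u) [AddCommGroup M] [Module A M] (i : ℕ) (p : Ideal A) [p.IsPrime]
    (hp : ¬ J ≤ p) : Van p ((cohP J (Dual.inD A A)).obj i M) := by
  obtain ⟨g, hg, hgp⟩ := SetLike.not_le_iff_exists.mp hp
  intro x
  change Dual.inD A A ⟶ ((G₀ (DRing.RgammaI J)).obj (ModuleCat.of A M))⟦(i : ℤ)⟧ at x
  obtain ⟨k, hk⟩ := torsion_rgamma J (Dual.inD A M) i
    (Localalg.DRingHom.ringEquiv A _ (i : ℤ) x)
  have key : g ^ k • x = 0 := by
    apply (Localalg.DRingHom.ringEquiv A _ (i : ℤ)).injective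
    rw [map_smul, map_zero]
    exact hk _ (Ideal.pow_mem_pow hg k)
  exact ⟨g ^ k, fun h => hgp (Ideal.IsPrime.mem_of_pow_mem ‹_› k h), key⟩

/-- **Comparison**, in terms of `Hom(P, -)`. -/
theorem bijective_app [IsAdicComplete I A] (hω : ∃ ω : Dual.D A, Dual.IsDualizing A ω)
    {P : Dual.D A} {ε : P ⟶ Dual.inD A A}
    (hε : GMAbs.IsCoref (Tors I) ε) (d : ℕ) (hd : LocCoh.CdLE A I d)
    (M : Type u) [AddCommGroup M] [Module A M] [Module.Finite A M] (s : ℕ)
    (h₄ : ∀ (p : Ideal A) [p.IsPrime], ¬ I ≤ p →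
      (∃ q : Ideal A, q.IsPrime ∧ p ≤ q ∧ I ≤ q ∧ ¬ J ≤ q) →
      ∀ (q : Ideal A) [q.IsPrime], p ≤ q → J ≤ q → I ≤ q →
        (s : ℕ∞) ≤ dep p M ∨ (((d + s : ℕ) : ℕ∞) : WithBot ℕ∞) <
          ((dep p M : ℕ∞) : WithBot ℕ∞) + Formal2.dimBetween A p q)
    (hdep : ∀ (p : Ideal A) [p.IsPrime],
      (∀ q : Ideal A, q.IsPrime → p ≤ q → I ≤ q → J ≤ q) → ¬ J ≤ p →
        ((s + 1 : ℕ) : ℕ∞) ≤ dep p M) :
    ∀ i ≤ s, Function.Bijective ((cohHom J ε).app i M) := by
  let T : Ideal A → Prop := fun p => ∀ q : Ideal A, q.IsPrime → p ≤ q → I ≤ q → J ≤ q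
  have hnT : ∀ (p : Ideal A) [p.IsPrime], ¬ T p → ∃ q : Ideal A, q.IsPrime ∧ p ≤ q ∧ I ≤ q ∧
      ¬ J ≤ q := by
    intro p _ hp
    simp only [T, not_forall] at hp
    obtain ⟨q, hq, hpq, hIq, hJq⟩ := hp
    exact ⟨q, hq, hpq, hIq, hJq⟩
  have hT : ∀ p q : Ideal A, p ≤ q → T p → T q := fun p q h1 h2 r hr hqr hIr =>
    h2 r hr (h1.trans hqr) hIr
  have hV : ∀ p q : Ideal A, p ≤ q → J ≤ p → J ≤ q := fun p q h1 h2 => h2.trans h1
  have hVT : ∀ (p : Ideal A) [p.IsPrime], J ≤ p → T p := fun p _ h r _ hpr _ => h.trans hpr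
  have hH : ∀ (M : Type u) [AddCommGroup M] [Module A M] [Module.Finite A M] (i : ℕ)
      (p : Ideal A) [p.IsPrime], ¬ J ≤ p → Van p ((cohP J (Dual.inD A A)).obj i M) :=
    fun M _ _ _ i p _ hp => van_H J M i p hp
  have hK : ∀ (M : Type u) [AddCommGroup M] [Module A M] [Module.Finite A M]
      (p : Ideal A) [p.IsPrime], ¬ T p → Van p ((cohP J P).obj 0 M) := by
    intro M _ _ _ p _ hp y
    obtain ⟨q, hq, hpq, hIq, hJq⟩ := hnT p hp
    obtain ⟨f, hf, h0⟩ := van_zero J hε M hIq hJq y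
    exact ⟨f, fun h => hf (hpq h), h0⟩
  have h0i : ∀ (M : Type u) [AddCommGroup M] [Module A M] [Module.Finite A M],
      Function.Injective ((cohHom J ε).app 0 M) := by
    intro M _ _ _
    rw [injective_iff_map_eq_zero]
    intro x hx
    exact injective_zero J hε M x hx
  have h0s : ∀ (M : Type u) [AddCommGroup M] [Module A M] [Module.Finite A M],
      (∀ (p : Ideal A) [p.IsPrime], T p → ¬ J ≤ p → 1 ≤ dep p M) →
      Function.Surjective ((cohHom J ε).app 0 M) := by
    intro M _ _ _ hM y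
    obtain ⟨x, hx⟩ := surjective_zero J hε M (fun p _ h1 h2 => hM p h1 h2) y
    exact ⟨x, hx⟩
  have htor : ∀ (M : Type u) [AddCommGroup M] [Module A M] [Module.Finite A M],
      (∀ (p : Ideal A) [p.IsPrime], ¬ J ≤ p → Van p M) →
        ∀ i, Function.Bijective ((cohHom J ε).app i M) := by
    intro M _ _ _ hM i
    have hMt : LocCoh.IsPowerTorsion J M := fun m =>
      FormZero.mem_gam_of_tors J M m (fun p _ hp => hM p hp m)
    exact bij_coref_shift I ε hε _ (complete_of_torsion J M hMt) i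
  have hDC : ∀ (p : Ideal A) [p.IsPrime], ¬ T p → (cohP J P).DC s p M := by
    intro p _ hp
    obtain ⟨q₀, hq₀, hpq₀, hIq₀, hJq₀⟩ := hnT p hp
    have hJp : ¬ J ≤ p := fun h => hJq₀ (h.trans hpq₀)
    by_cases hIp : I ≤ p
    · refine Or.inr ⟨0, s, by simp, by omega, fun i _ => ?_⟩
      -- `RΓ_J(A/p)` is complete
      have h1 : DRing.IsDerivedComplete I
          ((G₀ (DRing.RgammaI J)).obj (ModuleCat.of A (A ⧸ p))) := by
        obtain ⟨t, ht⟩ := IsNoetherian.noetherian I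
        refine S1814.complete_of_nil I t.toList ?_ _ fun f hf => ?_
        · rw [← ht]
          congr 1
          ext f
          simp
        · have hfI : f ∈ I := by
            rw [← ht]
            exact Submodule.subset_span (by simpa using hf)
          have h1 : f ^ 1 • 𝟙 (ModuleCat.of A (A ⧸ p)) = 0 := by
            apply ModuleCat.hom_ext
            apply LinearMap.ext
            intro x
            obtain ⟨y, rfl⟩ := Ideal.Quotient.mk_surjective x
            change f ^ 1 • (Ideal.Quotient.mk p y) = 0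
            rw [pow_one, Algebra.smul_def]
            change Ideal.Quotient.mk p f * _ = 0
            rw [Ideal.Quotient.eq_zero_iff_mem.mpr (hIp hfI), zero_mul]
          have h2 : f ^ 1 • 𝟙 (Dual.inD A (A ⧸ p)) = 0 := by
            have h3 := congrArg (DerivedCategory.singleFunctor (ModuleCat.{u} A) 0).map h1
            rw [Functor.map_smul, CategoryTheory.Functor.map_id, Functor.map_zero] at h3
            exact h3
          refine ⟨1, ?_⟩
          exact (RGammaTri.rg_map_smul_id J (f ^ 1) (Dual.inD A (A ⧸ p))).symm.trans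
            (by rw [h2, Functor.map_zero])
      exact (hH (A ⧸ p) i p hJp).of_surjective ((cohHom J ε).app i (A ⧸ p))
        (bij_coref_shift I ε hε _ h1 i).2
    · by_cases h2 : (s : ℕ∞) ≤ dep p M
      · exact Or.inl h2
      · rw [not_le] at h2
        obtain ⟨e, he⟩ := ENat.ne_top_iff_exists.mp (ne_top_of_lt h2)
        rw [← he, Nat.cast_lt] at h2
        obtain ⟨k, rfl⟩ := Nat.exists_eq_add_of_lt h2
        refine Or.inr ⟨e, k + 1, he.le, by omega, good J hω hε p hJp d (k + 1) hd ?_⟩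
        intro q _ hpq hJq hIq
        rcases h₄ p hIp ⟨q₀, hq₀, hpq₀, hIq₀, hJq₀⟩ q hpq hJq hIq with h3 | h3
        · rw [← he] at h3
          have : e + k + 1 ≤ e := by exact_mod_cast h3
          omega
        · rw [← he] at h3
          by_contra hcon
          rw [not_lt] at hcon
          have h4 : ((e : ℕ∞) : WithBot ℕ∞) + Formal2.dimBetween A p q ≤
              ((e : ℕ∞) : WithBot ℕ∞) + (((d + (k + 1) : ℕ) : ℕ∞) : WithBot ℕ∞) := by gcongr
          refine absurd (h3.trans_le h4) (not_lt.mpr (le_of_eq ?_))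
          have h5 : e + (d + (k + 1)) = d + (e + k + 1) := by omega
          rw [← h5]
          push_cast
          rfl
  exact ((cohHom J ε).bijective_of_dcJ T (fun p => J ≤ p) hT hV hVT hH hK h0i
    (fun M _ _ _ hM => ⟨h0i M, h0s M hM⟩) htor s M hDC hdep).1

/-- from `Hom(P, -)` to cohomology -/
theorem bijective_HD {P : Dual.D A} {ε : P ⟶ Dual.inD A A}
    (hε : GMAbs.IsCoref (Tors I) ε) {K LK : Dual.D A} (η : K ⟶ LK)
    (hη : GMAbs.IsRefl (DRing.IsDerivedComplete I) η) (i : ℤ)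
    (h : Function.Bijective (fun x : Dual.inD A A ⟶ K⟦i⟧ => ε ≫ x)) :
    Function.Bijective ((DerivedCategory.homologyFunctor (ModuleCat.{u} A) i).map η).hom := by
  have h1 := bij_coref_shift I ε hε LK hη.mem i
  have h2 := bij_refl_shift I η hη P hε.mem i
  have h3 : Function.Bijective (fun x : Dual.inD A A ⟶ K⟦i⟧ => x ≫ η⟦i⟧') := by
    have h4 : Function.Bijective ((fun u : Dual.inD A A ⟶ LK⟦i⟧ => ε ≫ u) ∘
        (fun x : Dual.inD A A ⟶ K⟦i⟧ => x ≫ η⟦i⟧')) := by
      have h5 := h2.comp h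
      refine (congrArg Function.Bijective ?_).mp h5
      funext x
      exact Category.assoc _ _ _
    exact (Function.Bijective.of_comp_iff' h1 _).1 h4
  have h6 : ((DerivedCategory.homologyFunctor (ModuleCat.{u} A) i).map η).hom ∘
      (Localalg.DRingHom.ringEquiv A K i) =
      (Localalg.DRingHom.ringEquiv A LK i) ∘ (fun x : Dual.inD A A ⟶ K⟦i⟧ => x ≫ η⟦i⟧') := by
    funext x
    exact (Localalg.DRingHom.ringEquiv_comp A i x η).symm
  have h7 : Function.Bijective (((DerivedCategory.homologyFunctor (ModuleCat.{u} A) i).map η).hom ∘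
      (Localalg.DRingHom.ringEquiv A K i)) := by
    rw [h6]
    exact (Localalg.DRingHom.ringEquiv A LK i).bijective.comp h3
  exact (Function.Bijective.of_comp_iff _ (Localalg.DRingHom.ringEquiv A K i).bijective).1 h7

/-- **Comparison** of `H^i(RΓ_J(M))` and `H^i` of the derived completion, `i ≤ s`. -/
theorem main [IsAdicComplete I A] (hω : ∃ ω : Dual.D A, Dual.IsDualizing A ω)
    (d : ℕ) (hd : LocCoh.CdLE A I d)
    (M : Type u) [AddCommGroup M] [Module A M] [Module.Finite A M] (s : ℕ)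
    (h₄ : ∀ (p : Ideal A) [p.IsPrime], ¬ I ≤ p →
      (∃ q : Ideal A, q.IsPrime ∧ p ≤ q ∧ I ≤ q ∧ ¬ J ≤ q) →
      ∀ (q : Ideal A) [q.IsPrime], p ≤ q → J ≤ q → I ≤ q →
        (s : ℕ∞) ≤ dep p M ∨ (((d + s : ℕ) : ℕ∞) : WithBot ℕ∞) <
          ((dep p M : ℕ∞) : WithBot ℕ∞) + Formal2.dimBetween A p q)
    (hdep : ∀ (p : Ideal A) [p.IsPrime],
      (∀ q : Ideal A, q.IsPrime → p ≤ q → I ≤ q → J ≤ q) → ¬ J ≤ p →
        ((s + 1 : ℕ) : ℕ∞) ≤ dep p M) (i : ℤ) (hi : i ≤ s) :
    Function.Bijective ((DerivedCategory.homologyFunctor (ModuleCat.{u} A) i).map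
      (DRing.toDerivedCompletion I ((DRing.RgammaI J).obj (Dual.inD A M)))).hom := by
  have hRI : DRing.HasRgammaI I := hasRgammaI I
  obtain ⟨ε, hε⟩ := exists_coref I (Dual.inD A A)
  by_cases h0 : i < 0
  · have h1 : Subsingleton (Dual.HD A ((DRing.RgammaI J).obj (Dual.inD A M)) i) := by
      have := HatKill.isGE_rgamma J M
      exact ModuleCat.subsingleton_of_isZero (DerivedCategory.isZero_of_isGE _ 0 i h0)
    have h2 : Subsingleton (Dual.HD A ((DRing.derivedCompletion I).obj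
        ((DRing.RgammaI J).obj (Dual.inD A M))).obj i) := by
      have := hasProduct_KM I J M
      exact (S1815.aux A I J M).2 i h0
    exact ⟨fun x y _ => @Subsingleton.elim _ h1 x y, fun y => ⟨0, @Subsingleton.elim _ h2 _ _⟩⟩
  · obtain ⟨n, rfl⟩ := Int.eq_ofNat_of_zero_le (not_lt.1 h0)
    refine bijective_HD hε _ (exists_refl I _) n ?_
    exact bijective_app J hω hε d hd M s h₄ hdep n (by exact_mod_cast hi)

end K164.HatMain
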