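import Groth.Agent.LocCoh.K164.HatKill
import Groth.Agent.LoccohB.RlimComp4
import Groth.Agent.S1075

/-!
# Reflections, coreflections and shifts; the derived completion of `RΓ_J(M)` as an `R lim`

* `IsCoref.shift`, `IsRefl.shift`;
* `bij_coref_shift`, `bij_refl_shift`;
* `exists_rlim_refl`: `RΓ_J(M) → R lim RΓ_J(M/I^nM)` is a reflection into the derived complete objects.
-/

set_option autoImplicit false
universe u v w

open CategoryTheory Limits Opposite Pretriangulated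

attribute [local instance] HasDerivedCategory.standard

namespace K164.HatRefl

open Groth.Agent Groth.Agent.LoccohB Groth.Agent.S1814 Groth.Agent.LoccohB.ProZ
  Groth.Agent.LoccohB.RlimComp Groth.Agent.LoccohB.RGammaTri
open scoped Groth.Agent.LoccohB.RGammaTri

section Abstract

variable {T : Type u} [Category.{v} T] [Preadditive T] [HasZeroObject T] [HasShift T ℤ]
  [∀ n : ℤ, (shiftFunctor T n).Additive] [Pretriangulated T]

omit [HasZeroObject T] [Preadditive T] [∀ n : ℤ, (shiftFunctor T n).Additive] [Pretriangulated T] in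
theorem coref_shift {P : T → Prop} (hPs : ∀ X (n : ℤ), P X → P (X⟦n⟧)) {RK K : T} {ε : RK ⟶ K}
    (hε : GMAbs.IsCoref P ε) (i : ℤ) : GMAbs.IsCoref P (ε⟦i⟧') := by
  refine ⟨hPs _ i hε.mem, ?_, ?_⟩
  · intro Z hZ u
    let e : Z⟦-i⟧⟦i⟧ ≅ Z := (shiftFunctorCompIsoId T (-i) i (by simp)).app Z
    obtain ⟨w, hw⟩ := (shiftFunctor T i).map_surjective (e.hom ≫ u)
    obtain ⟨v, hv⟩ := hε.exists_lift _ (hPs Z (-i) hZ) w
    refine ⟨e.inv ≫ v⟦i⟧', ?_⟩
    rw [Category.assoc, ← Functor.map_comp, hv, hw, e.inv_hom_id_assoc]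
  · intro Z hZ v w hvw
    let e : Z⟦-i⟧⟦i⟧ ≅ Z := (shiftFunctorCompIsoId T (-i) i (by simp)).app Z
    obtain ⟨v', hv'⟩ := (shiftFunctor T i).map_surjective (e.hom ≫ v)
    obtain ⟨w', hw'⟩ := (shiftFunctor T i).map_surjective (e.hom ≫ w)
    have h1 : v' = w' := by
      apply hε.ext _ (hPs Z (-i) hZ)
      apply (shiftFunctor T i).map_injective
      rw [Functor.map_comp, Functor.map_comp, hv', hw', Category.assoc, Category.assoc, hvw]
    rw [← cancel_epi e.hom, ← hv', ← hw', h1]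

omit [HasZeroObject T] [Preadditive T] [∀ n : ℤ, (shiftFunctor T n).Additive] [Pretriangulated T] in
theorem refl_shift {N : T → Prop} (hNs : ∀ X (n : ℤ), N X → N (X⟦n⟧)) {K LK : T} {η : K ⟶ LK}
    (hη : GMAbs.IsRefl N η) (i : ℤ) : GMAbs.IsRefl N (η⟦i⟧') := by
  refine ⟨hNs _ i hη.mem, ?_, ?_⟩
  · intro Z hZ u
    let e : Z⟦-i⟧⟦i⟧ ≅ Z := (shiftFunctorCompIsoId T (-i) i (by simp)).app Z
    obtain ⟨w, hw⟩ := (shiftFunctor T i).map_surjective (u ≫ e.inv)
    obtain ⟨v, hv⟩ := hη.exists_desc _ (hNs Z (-i) hZ) w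
    refine ⟨v⟦i⟧' ≫ e.hom, ?_⟩
    rw [← Category.assoc, ← Functor.map_comp, hv, hw, Category.assoc, e.inv_hom_id,
      Category.comp_id]
  · intro Z hZ v w hvw
    let e : Z⟦-i⟧⟦i⟧ ≅ Z := (shiftFunctorCompIsoId T (-i) i (by simp)).app Z
    obtain ⟨v', hv'⟩ := (shiftFunctor T i).map_surjective (v ≫ e.inv)
    obtain ⟨w', hw'⟩ := (shiftFunctor T i).map_surjective (w ≫ e.inv)
    have h1 : v' = w' := by
      apply hη.ext _ (hNs Z (-i) hZ)
      apply (shiftFunctor T i).map_injective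
      rw [Functor.map_comp, Functor.map_comp, hv', hw', ← Category.assoc, ← Category.assoc, hvw]
    rw [← cancel_mono e.inv, ← hv', ← hw', h1]

end Abstract

variable {A : Type u} [CommRing A]

theorem complete_of_iso (I : Ideal A) {X Y : Dual.D A} (e : X ≅ Y)
    (h : DRing.IsDerivedComplete I X) : DRing.IsDerivedComplete I Y := by
  intro f hf n
  have := h f hf n
  refine ⟨fun x y => ?_⟩
  rw [← cancel_mono (e.inv⟦n⟧')]
  exact Subsingleton.elim _ _

variable [IsNoetherianRing A] (I : Ideal A)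

/-- precomposition with a coreflection is bijective on maps to shifts of complete objects -/
theorem bij_coref_shift [DRing.HasDerivedCompletion I] {RK K : Dual.D A} (ε : RK ⟶ K)
    (hε : GMAbs.IsCoref (Tors I) ε) (Z : Dual.D A) (hZ : DRing.IsDerivedComplete I Z) (i : ℤ) :
    Function.Bijective (fun u : K ⟶ Z⟦i⟧ => ε ≫ u) :=
  have := hasRgammaI I
  HatKill.bij_coref I ε hε _ (complete_shift I Z i hZ)

/-- postcomposition with a shifted reflection is bijective on maps from torsion objects -/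
theorem bij_refl_shift {K LK : Dual.D A} (η : K ⟶ LK)
    (hη : GMAbs.IsRefl (DRing.IsDerivedComplete I) η) (Z : Dual.D A) (hZ : Tors I Z) (i : ℤ) :
    Function.Bijective (fun u : Z ⟶ K⟦i⟧ => u ≫ η⟦i⟧') :=
  have := hasRgammaI I
  HatKill.bij_refl I (η⟦i⟧') (refl_shift (complete_shift I) hη i) Z hZ

section Rlim

variable (J : Ideal A) [DRing.HasRgammaI J] (M : Type u) [AddCommGroup M] [Module A M]
  [Module.Finite A M]

omit [Module.Finite A M] in
theorem hasProduct_KM : HasProduct (KM I J M) :=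
  S1075.result (KM I J M) fun n => ⟨0, HatKill.isGE_rgamma J
    (M ⧸ (I ^ n • ⊤ : Submodule A M))⟩

/-- `RΓ_J(M) → R lim RΓ_J(M/I^nM)` is a reflection. -/
theorem exists_rlim_refl [DRing.HasDerivedCompletion I] [HasProduct (KM I J M)] :
    ∃ (N : Dual.D A) (α : N ⟶ ∏ᶜ (KM I J M)) (γ : ∏ᶜ (KM I J M) ⟶ N⟦(1 : ℤ)⟧)
      (φ : (G₀ (DRing.RgammaI J)).obj (ModuleCat.of A M) ⟶ N),
      Triangle.mk α (δM I J M) γ ∈ distTriang (Dual.D A) ∧
      (∀ n, φ ≫ α ≫ Pi.π (KM I J M) n = (G₀ (DRing.RgammaI J)).map (qM I M n)) ∧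
      GMAbs.IsRefl (DRing.IsDerivedComplete I) φ := by
  obtain ⟨s, hs⟩ := IsNoetherian.noetherian I
  have hl : Ideal.span {f | f ∈ s.toList} = I := by
    rw [← hs]
    congr 1
    ext f
    simp
  have hl' : ∀ f ∈ s.toList, f ∈ I := fun f hf => hl ▸ Ideal.subset_span hf
  obtain ⟨N, α, γ, hT⟩ := distinguished_cocone_triangle₁ (δM I J M)
  -- the comparison morphism
  let p : (G₀ (DRing.RgammaI J)).obj (ModuleCat.of A M) ⟶ ∏ᶜ (KM I J M) :=
    Pi.lift fun n => (G₀ (DRing.RgammaI J)).map (qM I M n)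
  have hp : p ≫ δM I J M = 0 := by
    refine Pi.hom_ext _ _ fun n => ?_
    rw [Category.assoc, Limits.Pi.lift_π, Preadditive.comp_sub, ← Category.assoc,
      Limits.Pi.lift_π, Limits.Pi.lift_π, zero_comp, hpM I M (DRing.RgammaI J) n.le_succ, sub_self]
  obtain ⟨φ, hφ⟩ := Triangle.coyoneda_exact₂ _ hT p hp
  change (G₀ (DRing.RgammaI J)).obj (ModuleCat.of A M) ⟶ N at φ
  change p = φ ≫ α at hφ
  have hφ' : ∀ n, φ ≫ α ≫ Pi.π (KM I J M) n = (G₀ (DRing.RgammaI J)).map (qM I M n) := by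
    intro n
    rw [← Category.assoc, ← hφ, Limits.Pi.lift_π]
  have hN : DRing.IsDerivedComplete I N :=
    isDerivedComplete_of_rlim I (KM I J M) hT fun n => complete_rgamma_quot I J M n
  have hb := bijective_of_pz I M (DRing.RgammaI J) (pz_main I J M s.toList hl) α γ hT φ hφ'
  exact ⟨N, α, γ, φ, hT, hφ', isRefl_of_bijective I s.toList hl' φ hN hb⟩

/-- A morphism `P ⟶ RΓ_J(M)` (in degree `0`) from a torsion coreflection `P` of `A` vanishes as soon
as all its images in the `RΓ_J(M/I^nM)` vanish. -/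
theorem eq_zero_of_forall [DRing.HasDerivedCompletion I] {P : Dual.D A} (ε : P ⟶ Dual.inD A A)
    (hε : GMAbs.IsCoref (Tors I) ε)
    (y : P ⟶ ((G₀ (DRing.RgammaI J)).obj (ModuleCat.of A M))⟦((0 : ℕ) : ℤ)⟧)
    (hy : ∀ n, y ≫ ((G₀ (DRing.RgammaI J)).map (qM I M n))⟦((0 : ℕ) : ℤ)⟧' = 0) : y = 0 := by
  have := hasProduct_KM I J M
  obtain ⟨N, α, γ, φ, hT, hφ, hrefl⟩ := exists_rlim_refl I J M
  apply (bij_refl_shift I φ hrefl P hε.mem ((0 : ℕ) : ℤ)).1
  simp only
  rw [zero_comp]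
  have h1 : (y ≫ φ⟦((0 : ℕ) : ℤ)⟧') ≫ α⟦((0 : ℕ) : ℤ)⟧' = 0 := by
    apply prod_ext
    intro n
    rw [Category.assoc, Category.assoc, ← Functor.map_comp, ← Functor.map_comp, hφ, hy, zero_comp]
  obtain ⟨z, hz⟩ := les₁ hT P (-1) ((0 : ℕ) : ℤ) (by simp) _ h1
  have h2 : z = 0 := by
    apply prod_ext
    intro n
    rw [zero_comp]
    obtain ⟨x, hx⟩ := (bij_coref_shift I ε hε (KM I J M n) (complete_rgamma_quot I J M n)
      (-1)).2 (z ≫ (Pi.π (KM I J M) n)⟦(-1 : ℤ)⟧')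
    simp only at hx
    have h3 : x = 0 := RlimComp.hom_eq_zero J (M ⧸ (I ^ n • ⊤ : Submodule A M)) (-1) (by omega) x
    rw [← hx, h3, comp_zero]
  rw [← hz, h2, zero_comp]

end Rlim

end K164.HatRefl
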