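import Groth.Prelude.Def_ARSys
import Groth.Prelude.Def_DerCA
import Mathlib.Algebra.Category.ModuleCat.Abelian
import Mathlib.RingTheory.Artinian.Module

/-!
# Mittag-Leffler and essentially constant systems of Artinian modules

* `K164.MLArt.imageSubobject_eq_of_range_eq`: image subobjects in `ModuleCat` are compared through ranges.
* `K164.MLArt.isML_of_isArtinian`: an inverse system of Artinian modules is Mittag-Leffler.
* `K164.MLArt.isEssConstant_of_isArtinian`: an inverse system of Artinian modules with Artinian limit `A`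
  (elementwise formulation) is essentially constant with value `A`.
-/

set_option autoImplicit false
universe u

open CategoryTheory CategoryTheory.Limits Opposite

namespace K164.MLArt

variable {A : Type u} [CommRing A]

lemma imageSubobject_le_of_range_le {X Y Z : ModuleCat.{u} A} (f : X ⟶ Z) (g : Y ⟶ Z)
    (h : LinearMap.range f.hom ≤ LinearMap.range g.hom) :
    imageSubobject f ≤ imageSubobject g := by
  have : Mono (ModuleCat.ofHom (LinearMap.range g.hom).subtype) := by
    rw [ModuleCat.mono_iff_injective]; exact Subtype.val_injective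
  have : Epi (ModuleCat.ofHom g.hom.rangeRestrict) := by
    rw [ModuleCat.epi_iff_surjective]
    exact LinearMap.surjective_rangeRestrict _
  have hg : ModuleCat.ofHom g.hom.rangeRestrict ≫ ModuleCat.ofHom (LinearMap.range g.hom).subtype = g := by
    ext x; rfl
  have h1 : imageSubobject f ≤ Subobject.mk (ModuleCat.ofHom (LinearMap.range g.hom).subtype) := by
    refine imageSubobject_le_mk _ f (ModuleCat.ofHom
      (LinearMap.codRestrict (LinearMap.range g.hom) f.hom (fun c => h ⟨c, rfl⟩))) ?_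
    ext x; rfl
  refine h1.trans ?_
  rw [← imageSubobject_mono]
  have h2 : IsIso (Subobject.ofLE _ _
      (imageSubobject_comp_le (ModuleCat.ofHom g.hom.rangeRestrict)
        (ModuleCat.ofHom (LinearMap.range g.hom).subtype))) := isIso_of_mono_of_epi _
  have h3 : imageSubobject (ModuleCat.ofHom (LinearMap.range g.hom).subtype) ≤
      imageSubobject (ModuleCat.ofHom g.hom.rangeRestrict ≫ ModuleCat.ofHom (LinearMap.range g.hom).subtype) := by
    refine Subobject.le_of_comm (inv (Subobject.ofLE _ _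
      (imageSubobject_comp_le (ModuleCat.ofHom g.hom.rangeRestrict)
        (ModuleCat.ofHom (LinearMap.range g.hom).subtype)))) ?_
    rw [IsIso.inv_comp_eq, Subobject.ofLE_arrow]
  rwa [hg] at h3

lemma imageSubobject_eq_of_range_eq {X Y Z : ModuleCat.{u} A} (f : X ⟶ Z) (g : Y ⟶ Z)
    (h : LinearMap.range f.hom = LinearMap.range g.hom) :
    imageSubobject f = imageSubobject g :=
  le_antisymm (imageSubobject_le_of_range_le f g h.le) (imageSubobject_le_of_range_le g f h.ge)

/-- ranges of the transition maps stabilize (Artinian terms). -/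
lemma exists_range_stable (X : ARSys.PS (ModuleCat.{u} A)) (n : ℕ) [IsArtinian A (X.obj (op n))] :
    ∃ r : ℕ, n ≤ r ∧ ∀ (s : ℕ) (_ : r ≤ s) (hn : n ≤ r) (hn' : n ≤ s),
      LinearMap.range (ARSys.tr X hn').hom = LinearMap.range (ARSys.tr X hn).hom := by
  have hanti : ∀ (s t : ℕ) (hst : s ≤ t), LinearMap.range (ARSys.tr X (Nat.le_add_right n t)).hom ≤
      LinearMap.range (ARSys.tr X (Nat.le_add_right n s)).hom := by
    intro s t hst
    have : ARSys.tr X (Nat.le_add_right n t) =
        ARSys.tr X (show n + s ≤ n + t by omega) ≫ ARSys.tr X (Nat.le_add_right n s) := by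
      rw [ARSys.tr, ARSys.tr, ARSys.tr, ← X.map_comp]
      rfl
    rw [this, ModuleCat.hom_comp]
    exact LinearMap.range_comp_le_range _ _
  let F : ℕ →o (Submodule A (X.obj (op n)))ᵒᵈ :=
    ⟨fun t => OrderDual.toDual (LinearMap.range (ARSys.tr X (Nat.le_add_right n t)).hom),
      fun s t hst => hanti s t hst⟩
  obtain ⟨r, hr⟩ := IsArtinian.monotone_stabilizes F
  refine ⟨n + r, by omega, ?_⟩
  intro s hs hn hn'
  have h := hr (s - n) (by omega)
  have h' : LinearMap.range (ARSys.tr X (Nat.le_add_right n r)).hom =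
    LinearMap.range (ARSys.tr X (Nat.le_add_right n (s - n))).hom := h
  have hs2 : s = n + (s - n) := by omega
  have h4 : LinearMap.range (ARSys.tr X hn').hom =
      LinearMap.range (ARSys.tr X (Nat.le_add_right n (s - n))).hom := by
    generalize_proofs pf1
    revert hn' pf1
    generalize hk : s - n = k at *
    subst hs2
    intro _ _
    rfl
  rw [h4, ← h']

theorem isML_of_isArtinian (X : ARSys.PS (ModuleCat.{u} A)) (hX : ∀ n : ℕ, IsArtinian A (X.obj (op n))) :
    ARSys.IsML X := by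
  intro n
  have := hX n
  obtain ⟨r, hnr, hr⟩ := exists_range_stable X n
  refine ⟨r, fun s hs => ?_⟩
  apply imageSubobject_eq_of_range_eq
  have e1 := hr (n + r) (by omega) hnr (by omega)
  have e2 := hr (n + s) (by omega) hnr (by omega)
  exact e2.trans e1.symm

lemma tr_comp_apply (X : ARSys.PS (ModuleCat.{u} A)) {i j k : ℕ} (h : i ≤ j) (h' : j ≤ k) (h'' : i ≤ k)
    (x : X.obj (op k)) :
    (ARSys.tr X h).hom ((ARSys.tr X h').hom x) = (ARSys.tr X h'').hom x := by
  have : ARSys.tr X h'' = ARSys.tr X h' ≫ ARSys.tr X h := by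
    rw [ARSys.tr, ARSys.tr, ARSys.tr, ← X.map_comp]
    rfl
  rw [this]
  rfl

lemma tr_self_apply (X : ARSys.PS (ModuleCat.{u} A)) {i : ℕ} (h : i ≤ i) (x : X.obj (op i)) :
    (ARSys.tr X h).hom x = x := by
  have : ARSys.tr X h = 𝟙 _ := by
    rw [ARSys.tr, ← X.map_id]
    rfl
  rw [this]
  rfl

lemma tr_cone_apply (X : ARSys.PS (ModuleCat.{u} A)) (B : ModuleCat.{u} A)
    (c : (Functor.const ℕᵒᵖ).obj B ⟶ X) {i j : ℕ} (h : i ≤ j) (b : B) :
    (ARSys.tr X h).hom ((c.app (op j)).hom b) = (c.app (op i)).hom b := by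
  have := c.naturality (homOfLE h).op
  have h2 : c.app (op j) ≫ ARSys.tr X h = c.app (op i) := by
    rw [ARSys.tr, ← this]
    simp
  rw [← h2]
  rfl

theorem isEssConstant_of_isArtinian (X : ARSys.PS (ModuleCat.{u} A))
    (hX : ∀ n : ℕ, IsArtinian A (X.obj (op n))) (B : ModuleCat.{u} A) (hB : IsArtinian A B)
    (c : (Functor.const ℕᵒᵖ).obj B ⟶ X)
    (hinj : ∀ x : B, (∀ n : ℕ, (c.app (op n)).hom x = 0) → x = 0)
    (hsurj : ∀ y : (∀ n : ℕ, X.obj (op n)),
      (∀ (n m : ℕ) (h : n ≤ m), (ARSys.tr X h).hom (y m) = y n) →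
      ∃ x : B, ∀ n : ℕ, (c.app (op n)).hom x = y n) :
    DerCA.IsEssConstant X B c := by
  have hst := fun n => by
    have := hX n
    exact exists_range_stable X n
  choose ρ hρ1 hρ2 using hst
  -- the stable ranges
  let S : ∀ n, Submodule A (X.obj (op n)) := fun n => LinearMap.range (ARSys.tr X (hρ1 n)).hom
  have hS : ∀ (n s : ℕ) (hs : ρ n ≤ s) (hn : n ≤ s), LinearMap.range (ARSys.tr X hn).hom = S n :=
    fun n s hs hn => hρ2 n s hs (hρ1 n) hn
  have hSsurj : ∀ (n m : ℕ) (h : n ≤ m) (y : X.obj (op n)), y ∈ S n →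
      ∃ z : X.obj (op m), z ∈ S m ∧ (ARSys.tr X h).hom z = y := by
    intro n m h y hy
    have hn : n ≤ max (ρ n) (ρ m) := (hρ1 n).trans (le_max_left _ _)
    have hm : m ≤ max (ρ n) (ρ m) := (hρ1 m).trans (le_max_right _ _)
    rw [← hS n (max (ρ n) (ρ m)) (le_max_left _ _) hn] at hy
    obtain ⟨w, hw⟩ := hy
    refine ⟨(ARSys.tr X hm).hom w, ?_, ?_⟩
    · rw [← hS m (max (ρ n) (ρ m)) (le_max_right _ _) hm]
      exact ⟨w, rfl⟩
    · rw [tr_comp_apply X h hm hn, hw]
  have hlift : ∀ (n : ℕ) (y : X.obj (op n)), y ∈ S n → ∃ b : B, (c.app (op n)).hom b = y := by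
    intro n y hy
    let z : ∀ k : ℕ, {x : X.obj (op (n + k)) // x ∈ S (n + k)} := fun k =>
      Nat.rec (motive := fun k => {x : X.obj (op (n + k)) // x ∈ S (n + k)}) ⟨y, hy⟩
        (fun k zk => ⟨(hSsurj (n + k) (n + (k + 1)) (by omega) zk.1 zk.2).choose,
          (hSsurj (n + k) (n + (k + 1)) (by omega) zk.1 zk.2).choose_spec.1⟩) k
    have hz : ∀ k, (ARSys.tr X (show n + k ≤ n + (k + 1) by omega)).hom (z (k + 1)).1 = (z k).1 :=
      fun k => (hSsurj (n + k) (n + (k + 1)) (by omega) (z k).1 (z k).2).choose_spec.2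
    have hz' : ∀ (j k : ℕ) (h : j ≤ k),
        (ARSys.tr X (show n + j ≤ n + k by omega)).hom (z k).1 = (z j).1 := by
      intro j k h
      induction k, h using Nat.le_induction with
      | base => exact tr_self_apply X _ _
      | succ k hk ih =>
        rw [← tr_comp_apply X (show n + j ≤ n + k by omega) (show n + k ≤ n + (k + 1) by omega)
          (show n + j ≤ n + (k + 1) by omega), hz k, ih]
    obtain ⟨b, hb⟩ := hsurj (fun m => (ARSys.tr X (show m ≤ n + m by omega)).hom (z m).1) (by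
      intro m m' h
      rw [tr_comp_apply X h (show m' ≤ n + m' by omega) (show m ≤ n + m' by omega),
        ← tr_comp_apply X (show m ≤ n + m by omega) (show n + m ≤ n + m' by omega)
          (show m ≤ n + m' by omega), hz' m m' h])
    refine ⟨b, ?_⟩
    rw [hb n]
    exact hz' 0 n (Nat.zero_le _)
  have hmem : ∀ (n : ℕ) (b : B), (c.app (op n)).hom b ∈ S n := by
    intro n b
    exact ⟨(c.app (op (ρ n))).hom b, tr_cone_apply X B c (hρ1 n) b⟩
  -- an index with injective cone map
  obtain ⟨i, hi⟩ : ∃ i : ℕ, Function.Injective (c.app (op i)).hom := by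
    let F : ℕ →o (Submodule A B)ᵒᵈ :=
      ⟨fun t => OrderDual.toDual (LinearMap.ker (c.app (op t)).hom), by
        intro s t hst
        change LinearMap.ker (c.app (op t)).hom ≤ LinearMap.ker (c.app (op s)).hom
        intro x hx
        rw [LinearMap.mem_ker] at hx ⊢
        rw [← tr_cone_apply X B c hst x, hx, map_zero]⟩
    obtain ⟨i, hi⟩ := IsArtinian.monotone_stabilizes F
    refine ⟨i, ?_⟩
    rw [← LinearMap.ker_eq_bot, eq_bot_iff]
    intro x hx
    refine hinj x (fun n => ?_)
    rcases le_total n i with h | h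
    · rw [← tr_cone_apply X B c h x, LinearMap.mem_ker.mp hx, map_zero]
    · have h2 : LinearMap.ker (c.app (op i)).hom = LinearMap.ker (c.app (op n)).hom := hi n h
      rw [h2] at hx
      exact hx
  let e : B ≃ₗ[A] S i := LinearEquiv.ofBijective
    (LinearMap.codRestrict (S i) (c.app (op i)).hom (hmem i)) (by
      constructor
      · intro x y hxy
        exact hi (congrArg Subtype.val hxy)
      · rintro ⟨y, hy⟩
        obtain ⟨b, hb⟩ := hlift i y hy
        exact ⟨b, Subtype.ext hb⟩)
  let s : X.obj (op (ρ i)) ⟶ B := ModuleCat.ofHom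
    (e.symm.toLinearMap ∘ₗ LinearMap.codRestrict (S i) (ARSys.tr X (hρ1 i)).hom (fun x => ⟨x, rfl⟩))
  have hs : ∀ (b : B) (x : X.obj (op (ρ i))),
      (ARSys.tr X (hρ1 i)).hom x = (c.app (op i)).hom b → s.hom x = b := by
    intro b x h
    change e.symm ⟨(ARSys.tr X (hρ1 i)).hom x, _⟩ = b
    rw [LinearEquiv.symm_apply_eq]
    exact Subtype.ext h
  refine ⟨ρ i, s, ?_, ?_⟩
  · ext b
    exact hs b _ (tr_cone_apply X B c (hρ1 i) b)
  · intro j
    refine ⟨ρ (max j (ρ i)), (le_max_right _ _).trans (hρ1 _), (le_max_left _ _).trans (hρ1 _), ?_⟩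
    ext x
    obtain ⟨b, hb⟩ := hlift (max j (ρ i)) ((ARSys.tr X (hρ1 _)).hom x) ⟨x, rfl⟩
    have h1 : (ARSys.tr X ((le_max_left j (ρ i)).trans (hρ1 _))).hom x = (c.app (op j)).hom b := by
      rw [← tr_comp_apply X (le_max_left j (ρ i)) (hρ1 _) _ x, ← hb, tr_cone_apply]
    have h2 : (ARSys.tr X ((le_max_right j (ρ i)).trans (hρ1 _))).hom x = (c.app (op (ρ i))).hom b := by
      rw [← tr_comp_apply X (le_max_right j (ρ i)) (hρ1 _) _ x, ← hb, tr_cone_apply]
    change (ARSys.tr X _).hom x = (c.app (op j)).hom (s.hom ((ARSys.tr X _).hom x))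
    rw [h1, h2, hs b _ (tr_cone_apply X B c (hρ1 i) b)]

end K164.MLArt
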