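import Groth.Agent.FormalA.AlgCore
import Groth.Agent.LoccohB.RlimComp4

/-!
# The cohomological functors `M ↦ Hom(P, RΓ_J(M)⟦i⟧)`

* `cohP J P : CohF A`;
* `cohHom J ε : CohHom (cohP J P) (cohP J P')` for `ε : P' ⟶ P` (precomposition).
-/

set_option autoImplicit false
universe u

open CategoryTheory Limits Opposite Pretriangulated

attribute [local instance] HasDerivedCategory.standard

namespace K164.PHom

open Groth.Agent.LoccohB Groth.Agent.LoccohB.ProZ Groth.Agent.LoccohB.RlimComp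
  Groth.Agent.LoccohB.RGammaTri Groth.Agent.FormalA.AlgCore
open scoped Groth.Agent.LoccohB.RGammaTri

variable {A : Type u} [CommRing A] [IsNoetherianRing A] (J : Ideal A) [DRing.HasRgammaI J]

/-- the functor `M ↦ RΓ_J(M)⟦i⟧` -/
noncomputable abbrev Gi (i : ℤ) : ModuleCat.{u} A ⥤ Dual.D A :=
  G₀ (DRing.RgammaI J) ⋙ shiftFunctor (Dual.D A) i

/-- the functor `M ↦ Hom(P, RΓ_J(M)⟦i⟧)` -/
noncomputable def Fi (P : Dual.D A) (i : ℤ) : ModuleCat.{u} A ⥤ ModuleCat.{u + 1} A :=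
  Gi J i ⋙ (linearCoyoneda A (Dual.D A)).obj (op P)

omit [IsNoetherianRing A] in
theorem Fi_map (P : Dual.D A) (i : ℤ) {M N : ModuleCat.{u} A} (f : M ⟶ N)
    (x : P ⟶ (Gi J i).obj M) :
    ((Fi J P i).map f).hom x = x ≫ (Gi J i).map f := rfl

/-- the connecting morphism in `D(A)` -/
noncomputable def dl {S : ShortComplex (ModuleCat.{u} A)} (hS : S.ShortExact) (i : ℕ) :
    (Gi J i).obj S.X₃ ⟶ (Gi J (i + 1 : ℕ)).obj S.X₁ :=
  (gδ (DRing.RgammaI J) hS)⟦(i : ℤ)⟧' ≫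
    (shiftFunctorAdd' (Dual.D A) 1 (i : ℤ) (i + 1 : ℕ) (by push_cast; omega)).inv.app _

/-- the connecting map -/
noncomputable def Fδ (P : Dual.D A) {S : ShortComplex (ModuleCat.{u} A)} (hS : S.ShortExact)
    (i : ℕ) : (Fi J P i).obj S.X₃ →ₗ[A] (Fi J P (i + 1 : ℕ)).obj S.X₁ :=
  Linear.rightComp A P (dl J hS i)

theorem Fδ_apply (P : Dual.D A) {S : ShortComplex (ModuleCat.{u} A)} (hS : S.ShortExact)
    (i : ℕ) (x : P ⟶ (Gi J i).obj S.X₃) : Fδ J P hS i x = x ≫ dl J hS i := rfl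

/-- the cohomological functor `M ↦ Hom(P, RΓ_J(M)⟦i⟧)` -/
noncomputable def cohP (P : Dual.D A) : CohF.{u, u + 1} A where
  F i := Fi J P i
  map_smul_id i M a x := by
    change P ⟶ (Gi J i).obj M at x
    change x ≫ (Gi J i).map (a • 𝟙 M) = a • x
    have h : (Gi J i).map (a • 𝟙 M) = a • 𝟙 _ := by
      dsimp only [Functor.comp_map]
      rw [Functor.map_smul, CategoryTheory.Functor.map_id, rg_map_smul_id]
      exact GMAbs.shift_smul_id a ((DRing.RgammaI J).obj (Dual.inD A M)) (i : ℤ)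
    rw [h, Linear.comp_smul, Category.comp_id]
  δ hS _ i := Fδ J P hS i
  ex₂ {S} hS _ i x hx := les₂ (gδ_distinguished (DRing.RgammaI J) hS) P i x hx
  ex₃ {S} hS _ i x hx := by
    refine les₃ (gδ_distinguished (DRing.RgammaI J) hS) P i x ?_
    have h1 : (x ≫ (gδ (DRing.RgammaI J) hS)⟦(i : ℤ)⟧') ≫
      (shiftFunctorAdd' (Dual.D A) 1 (i : ℤ) (i + 1 : ℕ) (by push_cast; omega)).inv.app _ = 0 := by
      rw [Category.assoc]
      exact hx
    exact (Preadditive.IsIso.comp_right_eq_zero _ _).1 h1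
  ex₁ {S} hS _ i x hx :=
    les₁ (gδ_distinguished (DRing.RgammaI J) hS) P i (i + 1 : ℕ) (by push_cast; omega) x hx
  δ_g {S} hS _ i x := by
    change P ⟶ (Gi J i).obj S.X₂ at x
    change (x ≫ (Gi J i).map S.g) ≫ dl J hS i = 0
    have h1 := comp₂₃ (gδ_distinguished (DRing.RgammaI J) hS) (i : ℤ)
    rw [Category.assoc, dl]
    have h2 : (Gi J i).map S.g ≫ (gδ (DRing.RgammaI J) hS)⟦(i : ℤ)⟧' = 0 := h1
    rw [← Category.assoc ((Gi J i).map S.g), h2, zero_comp, comp_zero]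
  f_δ {S} hS _ i x := by
    change P ⟶ (Gi J i).obj S.X₃ at x
    change (x ≫ dl J hS i) ≫ (Gi J (i + 1 : ℕ)).map S.f = 0
    have h1 := comp₃₁ (gδ_distinguished (DRing.RgammaI J) hS) (i : ℤ) (i + 1 : ℕ)
      (by push_cast; omega)
    rw [Category.assoc, dl, Category.assoc]
    exact (congrArg (fun t => x ≫ t) h1).trans comp_zero

/-- precomposition with `ε` -/
noncomputable def cohHom {P P' : Dual.D A} (ε : P' ⟶ P) : CohHom (cohP J P) (cohP J P') where
  θ i := Functor.whiskerLeft (Gi J i) ((linearCoyoneda A (Dual.D A)).map ε.op)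
  comm {S} hS _ i x := by
    change P ⟶ (Gi J i).obj S.X₃ at x
    change ε ≫ (x ≫ dl J hS i) = (ε ≫ x) ≫ dl J hS i
    rw [Category.assoc]

theorem cohHom_app {P P' : Dual.D A} (ε : P' ⟶ P) (i : ℕ) (M : Type u) [AddCommGroup M]
    [Module A M] (x : P ⟶ (Gi J i).obj (ModuleCat.of A M)) :
    (cohHom J ε).app i M x = ε ≫ x := rfl

end K164.PHom
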